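import Mathlib
import Cfsg.Agent.Base
import Cfsg.Agent.Lib.Sig.Mart

/-! Coprime elementary abelian operator groups with unique invariant Sylow subgroups and fixed
points of odd order: the local lemmas. -/

set_option autoImplicit false
set_option linter.unusedSectionVars false
set_option linter.unusedVariables false

namespace H59.Pt

open Cfsg H69 H45 H43 Subgroup
open scoped commutatorElement

universe u
variable {Γ : Type u} [Group Γ] [Finite Γ]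

theorem cent_le_Phi {p : ℕ} [Fact p.Prime] {R B : Subgroup Γ} (hR : IsPGroup p R) (hn : B ≤ 𝐍(R))
    (hc : (Nat.card B).Coprime (Nat.card R)) (h : R ≤ ⁅R, B⁆) : R ⊓ 𝐂(B) ≤ Phi R := by
  refine (H2.inf_centralizer_le_commutator hn hc h).trans ?_
  rw [← H45.map_subtype_commutator, Phi_def]
  exact map_mono (H1.commutator_le_frattini hR)

theorem le_of_Phi {R M : Subgroup Γ} (h : R ≤ Phi R ⊔ R ⊓ M) : R ≤ M :=
  (Phi_nongen (le_antisymm (sup_le (Phi_le R) inf_le_left) h)).ge.trans inf_le_right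

theorem syl_le_sup {p : ℕ} [Fact p.Prime] {K M H T S : Subgroup Γ} (hK : K ⊴ H) (hM : M ≤ H)
    (h : H ≤ K ⊔ M) (hT : Syl p T M) (h1 : T ≤ S) (h2 : S ≤ H) (hS : IsPGroup p S) :
    S ≤ K ⊔ T := by
  have h3 := quotient_pSylow (K := K) (hM.trans hK.norm) hT
  have h4 : S /ₙ K ≤ M /ₙ K := (quotientSK (h2.trans hK.norm) (hM.trans hK.norm)).2 (h2.trans h)
  exact (quotientSK (h2.trans hK.norm) (hT.le.trans (hM.trans hK.norm))).1
    (h3.eq_of_le (quotient_isPGroup K hS) (quotientS K h1) h4).le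

theorem le_pcore_of_O2_cent {p : ℕ} [hp : Fact p.Prime] {X H : Subgroup Γ} (hX : IsPGroup p X)
    (h1 : X ≤ O2 {p}ᶜ {p} H) (h2 : X ≤ 𝐂(O[{p}ᶜ] H)) : X ≤ O[{p}] H := by
  have hZ : O2 {p}ᶜ {p} H ⊓ 𝐂(O[{p}ᶜ] H) ⊴ H :=
    (O2_normal _ _ H).inf_centralizer (pcore_norm _ _)
  obtain ⟨S, hS, e⟩ := Sylow_superset (le_inf h1 h2) hX
  have h3 := ((normalPCompl_of_sub_O2 (inf_le_left (b := 𝐂(O[{p}ᶜ] H)))).sdprod hS).sup_eq
  have h4 : O2 {p}ᶜ {p} H ⊓ 𝐂(O[{p}ᶜ] H) ≤ 𝐍(S) := by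
    refine h3.ge.trans (sup_le (cents_norm (centsC.1 ?_)) le_normalizer)
    exact centsS (hS.le.trans inf_le_right) (pcoreS_normal _ hZ)
  exact e.trans ((normal_Syl_pcore hS h4).ge.trans (pcoreS_normal _ hZ))

/-- An automorphism of odd prime order without fixed points on `V`. -/
theorem core {t u : ℕ} [ht : Fact t.Prime] [hu : Fact u.Prime] (htu : t ≠ u) {V U : Subgroup Γ}
    {b : Γ} (hb : (orderOf b).Prime) (hb2 : orderOf b ≠ 2) (hV : IsPGroup t V) (hU : IsPGroup u U)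
    (n1 : b ∈ 𝐍(U)) (n2 : b ∈ 𝐍(V)) (n3 : U ≤ 𝐍(V)) (c1 : ¬ orderOf b ∣ Nat.card U)
    (c2 : ¬ orderOf b ∣ Nat.card V) (hf : V ⊓ 𝐂[b] = ⊥) (h2 : u = 2 → U ⊓ 𝐂[b] = ⊥) :
    ⁅U, zpowers b⁆ ≤ 𝐂(V) := by
  have hz : zpowers b ≤ 𝐍(U) := zpowers_le.2 n1
  have c3 := coprime_of_isPGroup_of_isPGroup hu.out ht.out htu.symm hU hV
  have c4 := (Nat.Prime.coprime_iff_not_dvd hb).2 c2
  by_cases h : u = 2
  · refine (H2.commutator_le_of_le_normalizer hz).trans (centsC.1 ?_)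
    rw [← commutator_eq_bot_iff_le_centralizer, ← le_bot_iff]
    exact comm_le_of_fpf hb n1 (h2 h) (pgroup_sol ht.out hV) n3 n2 c3 c4
      (by rw [normalizer_eq_top]; exact le_top) (by rw [normalizer_eq_top]; trivial) hf.le
  have c5 : (Nat.card U).Coprime (Nat.card (zpowers b)) := by
    rw [Nat.card_zpowers]; exact ((Nat.Prime.coprime_iff_not_dvd hb).2 c1).symm
  have c6 := (mulEq_of_norm hz).card_of_inf_eq_bot (coprime_TIg c5)
  rw [commutator_comm]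
  refine H47.bg34_nil hz (by rwa [Nat.card_zpowers]) ?_ ?_ c5 (pgroup_nil hV) n3 (zpowers_le.2 n2)
    ?_ (by rwa [cent_cycle])
  · rw [sup_comm]
    exact H1.isSolvable_sup_of_le_normalizer (H2.isSolvable_zpowers b) (pgroup_sol hu.out hU) hz
  · obtain ⟨k, hk⟩ := hU.exists_card_eq
    rw [c6, hk, Nat.card_zpowers]
    exact (hu.out.odd_of_ne_two h).pow.mul (hb.odd_of_ne_two hb2)
  · rw [c6, Nat.card_zpowers]
    exact Nat.Coprime.mul_left c3 c4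

/-- The hypothesis. -/
structure Hy (r : ℕ) (G A : Subgroup Γ) : Prop where
  elem : IsElementaryAbelian r A
  r2 : r ≠ 2
  norm : A ≤ 𝐍(G)
  cop : ¬ r ∣ Nat.card G
  join : ∀ p : ℕ, p.Prime → ∀ X Y, Iv G A X → Iv G A Y → IsPGroup p X → IsPGroup p Y →
    IsPGroup p ↥(X ⊔ Y)
  odd : ¬ 2 ∣ Nat.card ↥(G ⊓ 𝐂(A))

variable {r : ℕ} [hr : Fact r.Prime] {G A : Subgroup Γ}

theorem iv_quo {X : Subgroup Γ} (h : Iv G A X) (M : Subgroup Γ) :
    Iv (G /ₙ M) (A /ₙ M) (X /ₙ M) := ⟨quotientS M h.1, quotient_norms M h.2⟩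

theorem iv_comm {X Y : Subgroup Γ} (h : Iv G A X) (hY : A ≤ 𝐍(Y)) (hn : Y ≤ 𝐍(X)) :
    Iv G A ⁅X, Y⁆ :=
  ⟨(H2.commutator_le_of_le_normalizer hn).trans h.1, H2.le_normalizer_commutator h.2 hY⟩

theorem iv_th {X : Subgroup Γ} (h : Iv G A X) : Iv G A ⁅X, A⁆ := iv_comm h le_normalizer h.2

theorem th_le {X : Subgroup Γ} (h : Iv G A X) : ⁅X, A⁆ ≤ X := H2.commutator_le_of_le_normalizer h.2

namespace Hy

variable (m : Hy r G A)
include m

theorem iv_self : Iv G A G := ⟨le_rfl, m.norm⟩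

theorem not_dvd {K : Subgroup Γ} (h : K ≤ G) : ¬ r ∣ Nat.card K := not_dvd_of_le h m.cop

theorem coprime {K : Subgroup Γ} (h : K ≤ G) : (Nat.card A).Coprime (Nat.card K) :=
  ea_coprime m.elem (m.not_dvd h)

theorem coprimez {K : Subgroup Γ} (h : K ≤ G) {a : Γ} (ha : a ∈ A) :
    (Nat.card (zpowers a)).Coprime (Nat.card K) := coprimeSg (m.coprime h) (zpowers_le.2 ha)

theorem normz {a : Γ} (ha : a ∈ A) : A ≤ 𝐍(zpowers a) := ea_le_normalizer m.elem (zpowers_le.2 ha)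

theorem iv_cent1 {K : Subgroup Γ} (h : Iv G A K) {a : Γ} (ha : a ∈ A) : Iv G A (K ⊓ 𝐂[a]) :=
  h.inf (ea_le_normalizer_centralizer_singleton m.elem ha)

theorem dec {K : Subgroup Γ} (h : Iv G A K) : ⁅K, A⁆ ⊔ K ⊓ 𝐂(A) = K :=
  H2.commutator_sup_centralizer h.2 (m.coprime h.1) (Or.inl (ea_solvable m.elem))

theorem th_th {K : Subgroup Γ} (h : Iv G A K) : ⁅⁅K, A⁆, A⁆ = ⁅K, A⁆ :=
  H2.commutator_commutator_eq h.2 (m.coprime h.1)

theorem sub {K : Subgroup Γ} (h : Iv G A K) : Hy r K A :=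
  ⟨m.elem, m.r2, h.2, m.not_dvd h.1, fun p hp X Y hX hY =>
    m.join p hp X Y ⟨hX.1.trans h.1, hX.2⟩ ⟨hY.1.trans h.1, hY.2⟩,
    fun e => m.odd (e.trans (card_dvd_of_le (inf_le_inf_right _ h.1)))⟩

theorem exists_syl {K : Subgroup Γ} (h : Iv G A K) (p : ℕ) [Fact p.Prime] :
    ∃ T, Syl p T K ∧ Iv G A T := by
  obtain ⟨T, hT, hA⟩ := H2.exists_invariant_sylowIn h.2 (m.coprime h.1)
    (Or.inl (ea_solvable m.elem)) p
  exact ⟨T, syl_of_sylowIn hT, hT.le.trans h.1, hA⟩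

theorem TI {M : Subgroup Γ} (h : M ≤ G) : M ⊓ A = ⊥ := coprime_TIg (m.coprime h).symm

theorem quo_cent {X M : Subgroup Γ} (hX : Iv G A X) (hM : Iv G A M) :
    (X ⊓ 𝐂(A)) /ₙ M = X /ₙ M ⊓ 𝐂(A /ₙ M) :=
  quotient_coprime_subcent hM.2 hX.2 (m.coprime (inf_le_left.trans hX.1))
    (Or.inl (ea_solvable m.elem))

theorem quo_cent1 {X M : Subgroup Γ} (hX : Iv G A X) (hM : Iv G A M) {b : Γ} (hb : b ∈ A) :
    (X ⊓ 𝐂[b]) /ₙ M = X /ₙ M ⊓ 𝐂[ap (coset M) b] := by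
  have hz : zpowers b ≤ A := zpowers_le.2 hb
  rw [← cent_cycle, ← cent_cycle, ← quotient_cycle (hM.2 hb)]
  exact quotient_coprime_subcent (hz.trans hM.2) (hz.trans hX.2)
    (m.coprimez (inf_le_left.trans hX.1) hb) (Or.inl (H2.isSolvable_zpowers b))

theorem lift {M : Subgroup Γ} (hM : Iv G A M) {p : ℕ} [Fact p.Prime] {X : Subgroup (Quo M)}
    (hX : Iv (G /ₙ M) (A /ₙ M) X) (hp : IsPGroup p X) :
    ∃ T, Iv G A T ∧ IsPGroup p T ∧ T ≤ 𝐍(M) ∧ T /ₙ M = X := by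
  have h1 : Iv G A (qpre M X) := ⟨qpre_le_of_le_quo hM.1 hX.1, norm_quotient_pre hM.2 hX.2⟩
  obtain ⟨T, hT, hi⟩ := m.exists_syl h1 p
  have h2 := quotient_pSylow (K := M) (qpre_le_normalizer X) hT
  rw [cosetpreK] at h2
  exact ⟨T, hi, hT.isP, hT.le.trans (qpre_le_normalizer X), (h2.eq_of_le hp h2.le le_rfl).symm⟩

theorem quo {M : Subgroup Γ} (hM : Iv G A M) : Hy r (G /ₙ M) (A /ₙ M) := by
  refine ⟨quotient_abelem M m.elem, m.r2, quotient_norms M m.norm,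
    fun h => m.cop (h.trans (dvdn_quotient M G)), fun p hp X Y hX hY h1 h2 => ?_, fun h => ?_⟩
  · have := Fact.mk hp
    obtain ⟨T, a1, a2, a3, rfl⟩ := m.lift hM hX h1
    obtain ⟨S, b1, b2, b3, rfl⟩ := m.lift hM hY h2
    rw [← quotientY a3 b3]
    exact quotient_isPGroup M (m.join p hp T S a1 b1 a2 b2)
  · rw [← m.quo_cent m.iv_self hM] at h
    exact m.odd (h.trans (dvdn_quotient M _))

theorem quo_ne_one {M : Subgroup Γ} (hM : Iv G A M) {b : Γ} (hb : b ∈ A) (h1 : b ≠ 1) :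
    ap (coset M) b ≠ 1 := fun e =>
  h1 (mem_bot.1 (m.TI hM.1 ▸ mem_inf.2 ⟨(coset_eq_one_iff (hM.2 hb)).1 e, hb⟩))

theorem exists_isyl (p : ℕ) [hp : Fact p.Prime] : ∃ P, ISyl G A p P := by
  obtain ⟨P, hP, hi⟩ := m.exists_syl m.iv_self p
  exact ⟨P, hP, hi.2, fun D hD h => le_sup_right.trans (hP.eq_of_le
    (m.join p hp.out P D hi hD hP.isP h) le_sup_left (sup_le hi.1 hD.1)).le⟩

theorem syl_inf {p : ℕ} [Fact p.Prime] {P H : Subgroup Γ} (hP : ISyl G A p P) (hH : Iv G A H) :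
    Syl p (P ⊓ H) H := by
  obtain ⟨T, h1, hi⟩ := m.exists_syl hH p
  have h2 : T ≤ P := hP.max T hi h1.isP
  rw [h1.max (P ⊓ H) (le_inf h2 h1.le) inf_le_right (hP.syl.isP.to_inf_left)]
  exact h1

theorem cent_norm {p : ℕ} [Fact p.Prime] {P : Subgroup Γ} (hP : ISyl G A p P) :
    G ⊓ 𝐂(A) ≤ 𝐍(P) := fun c hc => by
  have h1 : P ^ᶜ c ≤ P := hP.max _ ⟨by
      rw [← cj_eq_of_mem_normalizer (le_normalizer hc.1 : c ∈ 𝐍(G))]
      exact cj_mono c hP.syl.le,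
    le_normalizer_cj (cents_norm le_rfl hc.2) hP.norm⟩ (hP.syl.isP.map _)
  exact H24.mem_normalizer_of_conj_mem fun x hx => h1 ⟨x, hx, rfl⟩

theorem star {p q : ℕ} [hp : Fact p.Prime] [hq : Fact q.Prime] (hne : p ≠ q) {X Y : Subgroup Γ}
    (hX : Iv G A X) (hY : Iv G A Y) (h1 : IsPGroup p X) (h2 : IsPGroup q Y) (hn : Y ≤ 𝐍(X)) :
    X ⊓ 𝐂(A) ≤ 𝐂(Y) := by
  obtain ⟨Q, hQ⟩ := m.exists_isyl q
  rw [← commutator_eq_bot_iff_le_centralizer, ← le_bot_iff,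
    ← coprime_TIg (coprime_of_isPGroup_of_isPGroup hp.out hq.out hne h1 hQ.syl.isP)]
  refine le_inf ((commutator_mono inf_le_left le_rfl).trans
    (H2.commutator_le_of_le_normalizer hn)) ((commutator_mono le_rfl (hQ.max Y hY h2)).trans ?_)
  exact le_normalizer_iff_commutator_le_right.1
    ((inf_le_inf_right _ hX.1).trans (m.cent_norm hQ))

theorem star2 {p q : ℕ} [hp : Fact p.Prime] [hq : Fact q.Prime] (hne : p ≠ q) {X Y : Subgroup Γ}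
    (hX : Iv G A X) (hY : Iv G A Y) (h1 : IsPGroup p X) (h2 : IsPGroup q Y) (hn : Y ≤ 𝐍(X)) :
    Y ≤ 𝐍(⁅X, A⁆) := by
  have hV := iv_comm hX hY.2 hn
  have hc := coprime_of_isPGroup_of_isPGroup hq.out hp.out hne.symm h2 h1
  have hVX : ⁅X, Y⁆ ≤ X := H2.commutator_le_of_le_normalizer hn
  have hVV := H2.commutator_commutator_eq hn hc
  have hVn : Y ≤ 𝐍(⁅X, Y⁆) := normalizer_commutator_ge_right _ _
  have h3 : ⁅X, Y⁆ ≤ ⁅X, A⁆ := by
    generalize ⁅X, Y⁆ = V at *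
    have hVp := h1.to_le hVX
    refine le_of_Phi ((m.dec hV).ge.trans (sup_le (le_trans ?_ le_sup_right)
      (le_trans ?_ le_sup_left)))
    · exact le_inf (th_le hV) (commutator_mono hVX le_rfl)
    · exact (le_inf inf_le_left (m.star hne hV hY hVp h2 hVn)).trans
        (cent_le_Phi hVp hVn (coprimegS hc hVX) hVV.ge)
  rw [le_normalizer_iff_commutator_le_left]
  exact (commutator_mono (th_le hX) le_rfl).trans h3

theorem le_hall {π : Set ℕ} {L Y X : Subgroup Γ} (hL : Iv G A L) (hY : Hall π Y L)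
    (hYi : A ≤ 𝐍(Y)) (hX : IP G A π X) (h : X ≤ L) : X ≤ Y := by
  refine le_of_forall_syl fun p hp => ?_
  have := Fact.mk hp.1
  obtain ⟨P, hP⟩ := m.exists_isyl p
  refine ⟨P ⊓ X, m.syl_inf hP hX.1, ?_⟩
  have h1 := subHall_Sylow hp.1 hY (hX.2.mem_of_mem_primesOf hp)
    (m.syl_inf hP ⟨hY.le.trans hL.1, hYi⟩)
  have h2 := h1.eq_of_le (Q := P ⊓ L) hP.syl.isP.to_inf_left (inf_le_inf_left _ hY.le) inf_le_right
  exact (inf_le_inf_left _ h).trans (h2.le.trans inf_le_right)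

theorem join_pi {π : Set ℕ} {L H K : Subgroup Γ} (hL : Iv G A L) (hs : Group.IsSolvable L)
    (hH : IP G A π H) (hK : IP G A π K) (h1 : H ≤ L) (h2 : K ≤ L) : IsPi π (H ⊔ K) := by
  obtain ⟨Y, hY, hA⟩ := coprime_Hall_exists π hL.2 (m.coprime hL.1).symm hs
  exact hY.isPi.of_le (sup_le (m.le_hall hL hY hA hH h1) (m.le_hall hL hY hA hK h2))

theorem two_cent {U : Subgroup Γ} (hU : Iv G A U) (h : IsPGroup 2 U) : U ⊓ 𝐂(A) = ⊥ := by
  have := Fact.mk Nat.prime_two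
  have h1 : IsPi {2}ᶜ (G ⊓ 𝐂(A)) := (isPi_compl_singleton_iff Nat.prime_two).2 m.odd
  rw [← le_bot_iff, ← inf_eq_bot_of_p' h1 h]
  exact le_inf (inf_le_inf_right _ hU.1) inf_le_left

theorem th_le_z {U : Subgroup Γ} (hU : Iv G A U) {b : Γ} (hb : b ∈ A) (h : U ⊓ 𝐂[b] ≤ 𝐂(A)) :
    ⁅U, A⁆ ≤ ⁅U, zpowers b⁆ := by
  have hz : zpowers b ≤ 𝐍(U) := (zpowers_le.2 hb).trans hU.2
  have h1 := H2.commutator_sup_centralizer hz (m.coprimez hU.1 hb)
    (Or.inl (H2.isSolvable_zpowers b))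
  have h2 : U ≤ 𝐍(⁅U, zpowers b⁆) := normalizer_commutator_ge_left _ _
  rw [cent_cycle] at h1
  conv_lhs => rw [← h1]
  refine H2.commutator_sup_le le_normalizer (inf_le_left.trans h2)
    (H2.commutator_le_of_le_normalizer (iv_comm hU (m.normz hb) hz).2) ?_
  exact (commutator_eq_bot_iff_le_centralizer.2 h).le.trans bot_le

theorem l1ab {t u : ℕ} [ht : Fact t.Prime] [hu : Fact u.Prime] (htu : t ≠ u) {T U : Subgroup Γ}
    {b : Γ} (hb : b ∈ A) (hU : Iv G A U) (hUp : IsPGroup u U) (hUU : U ≤ ⁅U, A⁆)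
    (hUb : U ⊓ 𝐂[b] ≤ 𝐂(A)) (hT : Iv G A T) (hTp : IsPGroup t T) (hn : U ≤ 𝐍(T))
    (hab : IsMulCommutative T) (hTb : T ⊓ 𝐂[b] ≤ 𝐂(A)) : U ≤ 𝐂(T) := by
  have h0 := hUU.trans (m.th_le_z hU hb hUb)
  by_cases hb1 : b = 1
  · subst hb1
    rw [zpowers_one_eq_bot, commutator_bot_right] at h0
    exact h0.trans bot_le
  have hc := coprime_of_isPGroup_of_isPGroup hu.out ht.out htu.symm hUp hTp
  have hV := iv_comm hT hU.2 hn
  have hVT : ⁅T, U⁆ ≤ T := H2.commutator_le_of_le_normalizer hn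
  have hVn : U ≤ 𝐍(⁅T, U⁆) := normalizer_commutator_ge_right _ _
  have h1 := (BG.coprime_abelian_cent_dprod hn hc.symm hab).inf_eq
  have ho := ea_orderOf m.elem hb hb1
  refine centsC.1 (H2.le_centralizer_of_commutator_le_centralizer hn hc (centsC.1 (h0.trans ?_)))
  refine core htu (ho ▸ hr.out) (ho ▸ m.r2) (hTp.to_le hVT) hUp (hU.2 hb) (hV.2 hb) hVn
    (ho ▸ m.not_dvd hU.1) (ho ▸ m.not_dvd hV.1) ?_ ?_
  · rw [← le_bot_iff, ← h1]
    refine le_inf inf_le_left (le_inf (inf_le_left.trans hVT) ?_)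
    exact (le_inf (inf_le_left.trans hVT) ((inf_le_inf_right _ hVT).trans hTb)).trans
      (m.star htu hT hU hTp hUp hn)
  · rintro rfl
    rw [← le_bot_iff, ← m.two_cent hU hUp]
    exact le_inf inf_le_left hUb

/-- The basic action lemma. -/
theorem l1 {t u : ℕ} [ht : Fact t.Prime] [hu : Fact u.Prime] (htu : t ≠ u) {T U L : Subgroup Γ}
    {b : Γ} (hb : b ∈ A) (hU : Iv G A U) (hUp : IsPGroup u U) (hUU : U ≤ ⁅U, A⁆)
    (hUb : U ⊓ 𝐂[b] ≤ 𝐂(A)) (hT : Iv G A T) (hTp : IsPGroup t T) (hn : U ≤ 𝐍(T))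
    (hUL : U ≤ 𝐍(L)) (hAL : A ≤ 𝐍(L)) (h : ⁅T ⊓ 𝐂[b], A⁆ ≤ L) : ⁅T, U⁆ ≤ L := by
  refine comm_le_of_descent (pgroup_sol ht.out hTp) hn
    (coprime_of_isPGroup_of_isPGroup hu.out ht.out htu.symm hUp hTp) hUL ?_
  intro N M hNT hN h1 h2 h3 h4
  have hNi : Iv G A N := ⟨hNT.trans hT.1, hT.2.trans hN⟩
  have hMi : Iv G A M := ⟨h2.trans hNi.1, (le_inf hT.2 hAL).trans h4⟩
  have hNM : N ≤ 𝐍(M) := (normalIn_of_der_le h1 h2).norm
  have hUM : U ≤ 𝐍(M) := (le_inf hn hUL).trans h4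
  rw [← quotient_cents2 hNM hUM, centsC]
  refine (m.quo hMi).l1ab htu (mem_quotient M hb) (iv_quo hU M) (quotient_isPGroup M hUp) ?_ ?_
    (iv_quo hNi M) (quotient_isPGroup M (hTp.to_le hNT)) (quotient_norms M (hn.trans hN))
    (sub_der1_abelian h1) ?_
  · rw [← quotientR hUM hMi.2]
    exact quotientS M hUU
  · rw [← m.quo_cent1 hU hMi hb]
    exact quotient_cents M hUb
  · rw [← m.quo_cent1 hNi hMi hb]
    refine quotient_cents2r (le_trans (le_inf ?_ ?_) h3)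
    · exact (commutator_mono (inf_le_inf_right _ hNT) le_rfl).trans h
    · exact (th_le (m.iv_cent1 hNi hb)).trans inf_le_left

theorem l1c {t u : ℕ} [ht : Fact t.Prime] [hu : Fact u.Prime] (htu : t ≠ u) {T U : Subgroup Γ}
    {b : Γ} (hb : b ∈ A) (hU : Iv G A U) (hUp : IsPGroup u U) (hUU : U ≤ ⁅U, A⁆)
    (hUb : U ⊓ 𝐂[b] ≤ 𝐂(A)) (hT : Iv G A T) (hTp : IsPGroup t T) (hn : U ≤ 𝐍(T))
    (h : ⁅T ⊓ 𝐂[b], A⁆ ≤ 𝐂(U)) : U ≤ 𝐂(T) :=
  centsC.1 (H2.le_centralizer_of_commutator_le_centralizer hn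
    (coprime_of_isPGroup_of_isPGroup hu.out ht.out htu.symm hUp hTp)
    (m.l1 htu hb hU hUp hUU hUb hT hTp hn (H2.le_normalizer_centralizer le_normalizer)
      (H2.le_normalizer_centralizer hU.2) h))

end Hy

end H59.Pt
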