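import Mathlib
import Cfsg.Agent.Base
import Cfsg.Agent.Lib.Pet59.Hy

/-! The local lemmas for an operator group of rank two. -/

set_option autoImplicit false
set_option linter.unusedSectionVars false
set_option linter.unusedVariables false

namespace H59.Pt

open Cfsg H69 H45 H43 Subgroup
open scoped commutatorElement

universe u
variable {Γ : Type u} [Group Γ] [Finite Γ]

/-- The hypothesis in rank two. -/
structure Hz (r : ℕ) (G A : Subgroup Γ) : Prop extends Hy r G A where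
  card : Nat.card A = r ^ 2

variable {r : ℕ} [hr : Fact r.Prime] {G A : Subgroup Γ}

theorem ne_one_of_ind {a b : Γ} (h : b ∉ zpowers a) : b ≠ 1 := by
  rintro rfl; exact h (one_mem _)

namespace Hz

variable (m : Hz r G A)
include m

theorem quo {M : Subgroup Γ} (hM : Iv G A M) : Hz r (G /ₙ M) (A /ₙ M) :=
  ⟨m.toHy.quo hM, by rw [card_quotient_TI hM.2 (m.TI hM.1), m.card]⟩

theorem gen {K M : Subgroup Γ} (h : Iv G A K) (hM : ∀ a ∈ A, a ≠ 1 → K ⊓ 𝐂[a] ≤ M) : K ≤ M :=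
  le_of_forall_elt m.elem m.card.ge h.2 (m.not_dvd h.1) hM

theorem cent_le_of_mem {a b : Γ} (ha : a ∈ A) (hba : b ∈ zpowers a) (hb1 : b ≠ 1) :
    𝐂[b] ≤ 𝐂[a] := fun x hx =>
  mem_cent1_comm.1 (H76.mem_of_pow_mem_of_ne_one (m.elem.2 a ha) hba hb1 (mem_cent1_comm.1 hx))

theorem gen2 {K M : Subgroup Γ} (h : Iv G A K) {a : Γ} (ha : a ∈ A) (h1 : K ⊓ 𝐂[a] ≤ M)
    (hM : ∀ b ∈ A, b ∉ zpowers a → K ⊓ 𝐂[b] ≤ M) : K ≤ M := by
  refine m.gen h fun b hb hb1 => ?_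
  by_cases hba : b ∈ zpowers a
  · exact le_trans (inf_le_inf_left _ (m.cent_le_of_mem ha hba hb1)) h1
  · exact hM b hb hba

theorem ind_symm {a b : Γ} (ha : a ∈ A) (h1 : a ≠ 1) (hb : b ∈ A) (h : b ∉ zpowers a) :
    a ∉ zpowers b := fun h' =>
  h (H76.mem_of_pow_mem_of_ne_one (m.elem.2 b hb) h' h1 (mem_zpowers a))

theorem cent_ind {a b : Γ} (ha : a ∈ A) (h1 : a ≠ 1) (hb : b ∈ A) (h : b ∉ zpowers a)
    {E : Subgroup Γ} (hE : E ≤ 𝐂[a]) : E ⊓ 𝐂[b] ≤ 𝐂(A) := fun x hx =>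
  le_cent1_iff.1 (H76.le_of_mem_of_card_eq_sq m.card ha h1 (m.elem.2 a ha) hb h (M := 𝐂[x])
    (mem_cent1_comm.1 (hE hx.1)) (mem_cent1_comm.1 hx.2))

theorem exists_ind {a : Γ} (ha : a ∈ A) : ∃ b ∈ A, b ∉ zpowers a := by
  by_contra h
  push Not at h
  have h1 := (card_dvd_of_le (show A ≤ zpowers a from h)).trans (ea_card_zpowers_dvd m.elem ha)
  rw [m.card] at h1
  have := Nat.le_of_dvd hr.out.pos h1
  nlinarith [hr.out.one_lt]

theorem exists_ind2 {a a' : Γ} (ha : a ∈ A) (ha' : a' ∈ A) :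
    ∃ b ∈ A, b ∉ zpowers a ∧ b ∉ zpowers a' := by
  obtain ⟨x, hx, h1⟩ := m.exists_ind ha
  obtain ⟨y, hy, h2⟩ := m.exists_ind ha'
  by_cases h3 : x ∈ zpowers a'
  · by_cases h4 : y ∈ zpowers a
    · exact ⟨x * y, mul_mem hx hy, fun h => h1 ((mul_mem_cancel_right h4).1 h),
        fun h => h2 ((mul_mem_cancel_left h3).1 h)⟩
    · exact ⟨y, hy, h4, h2⟩
  · exact ⟨x, hx, h1, h3⟩

theorem comm_le_of_gen {X N : Subgroup Γ} (hX : Iv G A X) (hn : X ≤ 𝐍(N))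
    (h : ∀ a ∈ A, a ≠ 1 → ⁅X ⊓ 𝐂[a], A⁆ ≤ N) : ⁅X, A⁆ ≤ N :=
  (H2.le_relCentralizer_iff.1 (m.gen hX fun a ha h1 =>
    H2.le_relCentralizer_iff.2 ⟨inf_le_left.trans hn, h a ha h1⟩)).2

theorem comm_le_of_theta {p : ℕ} [Fact p.Prime] {X M : Subgroup Γ} (hX : Iv G A X)
    (hp : IsPGroup p X) {b : Γ} (hb : b ∈ A) (hb1 : b ≠ 1)
    (h : ∀ c ∈ A, c ∉ zpowers b → ⁅X ⊓ 𝐂[c], A⁆ ≤ M) : ⁅X, zpowers b⁆ ≤ M := by
  have hz : zpowers b ≤ A := zpowers_le.2 hb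
  have hR := iv_comm hX (m.normz hb) (hz.trans hX.2)
  have hRX : ⁅X, zpowers b⁆ ≤ X := H2.commutator_le_of_le_normalizer (hz.trans hX.2)
  have hRR := H2.commutator_commutator_eq (hz.trans hX.2) (m.coprimez hX.1 hb)
  generalize ⁅X, zpowers b⁆ = R at *
  have h1 : R ⊓ 𝐂[b] ≤ Phi R := cent_cycle b ▸
    cent_le_Phi (hp.to_le hRX) (hz.trans hR.2) (m.coprimez hR.1 hb) hRR.ge
  refine le_of_Phi (m.gen2 hR hb (h1.trans le_sup_left) fun c hc hcb => ?_)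
  have hi := m.iv_cent1 hR hc
  refine (m.dec hi).ge.trans (sup_le (le_trans (le_inf ((th_le hi).trans inf_le_left) ?_)
    le_sup_right) (le_trans (le_trans ?_ h1) le_sup_left))
  · exact (commutator_mono (inf_le_inf_right _ hRX) le_rfl).trans (h c hc hcb)
  · exact inf_le_inf inf_le_left (cent_le_cent1 hb)

theorem l1i {t u : ℕ} [ht : Fact t.Prime] [hu : Fact u.Prime] (htu : t ≠ u) {T U : Subgroup Γ}
    {a b : Γ} (ha : a ∈ A) (h1 : a ≠ 1) (hb : b ∈ A) (hba : b ∉ zpowers a) (hU : Iv G A U)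
    (hUp : IsPGroup u U) (hUU : U ≤ ⁅U, A⁆) (hUa : U ≤ 𝐂[a]) (hT : Iv G A T) (hTp : IsPGroup t T)
    (hn : U ≤ 𝐍(T)) (h : ⁅T ⊓ 𝐂[b], A⁆ ≤ 𝐂(U)) : U ≤ 𝐂(T) :=
  m.l1c htu hb hU hUp hUU (m.cent_ind ha h1 hb hba hUa) hT hTp hn h

theorem l1s {t u : ℕ} [ht : Fact t.Prime] [hu : Fact u.Prime] (htu : t ≠ u) {T U : Subgroup Γ}
    {a : Γ} (ha : a ∈ A) (h1 : a ≠ 1) (hU : Iv G A U)
    (hUp : IsPGroup u U) (hUU : U ≤ ⁅U, A⁆) (hUa : U ≤ 𝐂[a]) (hT : Iv G A T) (hTp : IsPGroup t T)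
    (hn : U ≤ 𝐍(T)) (h : T ≤ 𝐂[a]) : U ≤ 𝐂(T) := by
  obtain ⟨b, hb, hba⟩ := m.exists_ind ha
  exact m.l1i htu ha h1 hb hba hU hUp hUU hUa hT hTp hn
    ((commutator_eq_bot_iff_le_centralizer.2 (m.cent_ind ha h1 hb hba h)).le.trans bot_le)

theorem t0 {t u : ℕ} [ht : Fact t.Prime] [hu : Fact u.Prime] (htu : t ≠ u) {H U : Subgroup Γ}
    {a : Γ} (ha : a ∈ A) (h1 : a ≠ 1) (hU : Iv G A U) (hUp : IsPGroup u U) (hUU : U ≤ ⁅U, A⁆)
    (hH : Iv G A H) (hs : Group.IsSolvable H) (hUH : U ≤ H) (h : H ≤ 𝐂[a]) : U ≤ O[{t}ᶜ] H := by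
  have hK := hH.pcore {t}ᶜ
  have hn : U ≤ 𝐍(O[{t}ᶜ] H) := hUH.trans (pcore_norm _ _)
  have h2 : H /ₙ O[{t}ᶜ] H ≤ 𝐂[ap (coset (O[{t}ᶜ] H)) a] :=
    (quotientS _ h).trans (quotient_cent1 (hK.2 ha))
  have h3 := (m.quo hK).l1s htu (mem_quotient _ ha) (m.quo_ne_one hK ha h1) (iv_quo hU _)
    (quotient_isPGroup _ hUp) (by rw [← quotientR hn hK.2]; exact quotientS _ hUU)
    ((quotientS _ hUH).trans h2) ((iv_quo hH _).pcore {t}) (pcore_isPGroup t _)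
    ((quotientS _ hUH).trans (pcore_norm _ _)) ((pcore_sub _ _).trans h2)
  have h4 := (le_inf (quotientS _ hUH) h3).trans
    (cent_pcore_le (quotient_sol _ hs) (trivg_pcore_quotient _ _))
  rw [← quotient_sub1 hn, ← le_bot_iff, ← inf_eq_bot_of_p'
    (isPi_compl_of_ne (quotient_isPGroup _ hUp) htu.symm) (pcore_isPGroup t _)]
  exact le_inf le_rfl h4

theorem wl2ab {p q : ℕ} [hp : Fact p.Prime] [hq : Fact q.Prime] (hne : p ≠ q) {V Q U : Subgroup Γ}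
    {a : Γ} (ha : a ∈ A) (h1 : a ≠ 1) (hU : Iv G A U) (hUp : IsPGroup p U) (hUU : U ≤ ⁅U, A⁆)
    (hUa : U ≤ 𝐂[a]) (hQ : Iv G A Q) (hQp : IsPGroup q Q) (hV : Iv G A V) (hVp : IsPGroup p V)
    (n1 : U ≤ 𝐍(Q)) (n2 : Q ≤ 𝐍(V)) (n3 : U ≤ 𝐍(V)) (h : V ⊓ 𝐂(⁅Q, U⁆) = ⊥) : V = ⊥ := by
  have hz : zpowers a ≤ A := zpowers_le.2 ha
  have hc := coprime_of_isPGroup_of_isPGroup hp.out hq.out hne hUp hQp
  have hR := iv_comm hQ hU.2 n1
  have hRQ : ⁅Q, U⁆ ≤ Q := H2.commutator_le_of_le_normalizer n1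
  have h2 : V ⊓ 𝐂(U) ≤ 𝐂[a] := by
    have hi := hV.inf_cent hU.2
    refine m.gen2 hi ha inf_le_right fun c hc hca => le_trans ?_ bot_le
    have hi' := m.iv_cent1 hi hc
    have hc1 := ne_one_of_ind hca
    rw [← h]
    refine le_inf (inf_le_left.trans inf_le_left) (centsC.1 ?_)
    refine m.l1 hne.symm hc hU hUp hUU (m.cent_ind ha h1 hc hca hUa) hQ hQp n1
      (H2.le_normalizer_centralizer (cents_norm (centsC.1 (inf_le_left.trans inf_le_right))))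
      (H2.le_normalizer_centralizer hi'.2) ?_
    have hQc := m.iv_cent1 hQ hc
    refine centsS (m.l1s hne hc hc1 (iv_th hQc) ((hQp.to_inf_left).to_le (th_le hQc))
      (m.th_th hQc).ge ((th_le hQc).trans inf_le_right) (m.iv_cent1 hV hc) hVp.to_inf_left ?_
      inf_le_right) (inf_le_inf_right _ inf_le_left)
    exact (th_le hQc).trans (H2.le_normalizer_inf (inf_le_left.trans n2)
      (inf_le_right.trans le_normalizer))
  have h3 : zpowers a ≤ 𝐂(V) := H2.le_centralizer_of_nilpotent_sup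
    (pgroup_nil (m.join p hp.out V U hV hU hVp hUp)) (m.coprimez hV.1 ha)
    (cent_cycle a ▸ hUa) n3 (hz.trans hV.2) (cent_cycle a ▸ h2)
  have h4 : ⁅Q, U⁆ ≤ ⁅⁅Q, U⁆, zpowers a⁆ := by
    have hRR := H2.commutator_commutator_eq n1 hc
    have hRn : U ≤ 𝐍(⁅Q, U⁆) := normalizer_commutator_ge_right _ _
    generalize ⁅Q, U⁆ = R at *
    have hRp := hQp.to_le hRQ
    have e := H2.commutator_sup_centralizer (hz.trans hR.2) (m.coprimez hR.1 ha)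
      (Or.inl (H2.isSolvable_zpowers a))
    refine le_of_Phi (e.ge.trans (sup_le (le_trans (le_inf ?_ le_rfl) le_sup_right)
      (le_trans ?_ le_sup_left)))
    · exact H2.commutator_le_of_le_normalizer (hz.trans hR.2)
    · rw [cent_cycle]
      refine le_trans (le_inf inf_le_left (centsC.1 ?_)) (cent_le_Phi hRp hRn (coprimegS hc hRQ)
        hRR.ge)
      exact m.l1s hne.symm ha h1 hU hUp hUU hUa (m.iv_cent1 hR ha) hRp.to_inf_left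
        (H2.le_normalizer_inf hRn (hUa.trans le_normalizer)) inf_le_right
  rw [← h]
  exact (inf_of_le_left (centsC.1 (h4.trans
    (H2.commutator_le_centralizer_of_normalizes (hRQ.trans n2) h3)))).symm

theorem wl2 {p q : ℕ} [hp : Fact p.Prime] [hq : Fact q.Prime] (hne : p ≠ q) {V Q U : Subgroup Γ}
    {a : Γ} (ha : a ∈ A) (h1 : a ≠ 1) (hU : Iv G A U) (hUp : IsPGroup p U) (hUU : U ≤ ⁅U, A⁆)
    (hUa : U ≤ 𝐂[a]) (hQ : Iv G A Q) (hQp : IsPGroup q Q) (hV : Iv G A V) (hVp : IsPGroup p V)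
    (n1 : U ≤ 𝐍(Q)) (n2 : Q ≤ 𝐍(V)) (n3 : U ≤ 𝐍(V)) : ⁅Q, U⁆ ≤ 𝐂(V) := by
  have hR := iv_comm hQ hU.2 n1
  have hRQ : ⁅Q, U⁆ ≤ Q := H2.commutator_le_of_le_normalizer n1
  have hRV := hRQ.trans n2
  have hc := coprime_of_isPGroup_of_isPGroup hq.out hp.out hne.symm (hQp.to_le hRQ) hVp
  have hW := iv_comm hV hR.2 hRV
  have hWV : ⁅V, ⁅Q, U⁆⁆ ≤ V := H2.commutator_le_of_le_normalizer hRV
  have hWW := H2.commutator_commutator_eq hRV hc
  have n4 : Q ≤ 𝐍(⁅V, ⁅Q, U⁆⁆) :=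
    H2.le_normalizer_commutator n2 (normalizer_commutator_ge_left _ _)
  have n5 : U ≤ 𝐍(⁅V, ⁅Q, U⁆⁆) :=
    H2.le_normalizer_commutator n3 (normalizer_commutator_ge_right _ _)
  rw [centsC, ← commutator_eq_bot_iff_le_centralizer]
  generalize ⁅V, ⁅Q, U⁆⁆ = W at *
  have hWp := hVp.to_le hWV
  have hM := iv_comm hW hW.2 le_normalizer
  have hWM : W ≤ 𝐍(⁅W, W⁆) := norm_der le_normalizer
  have h2 := (m.quo hM).wl2ab hne (mem_quotient _ ha) (m.quo_ne_one hM ha h1) (iv_quo hU _)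
    (quotient_isPGroup _ hUp) (by rw [← quotientR (norm_der n5) hM.2]; exact quotientS _ hUU)
    ((quotientS _ hUa).trans (quotient_cent1 (hM.2 ha))) (iv_quo hQ _) (quotient_isPGroup _ hQp)
    (iv_quo hW _) (quotient_isPGroup _ hWp) (quotient_norms _ n1) (quotient_norms _ n4)
    (quotient_norms _ n5) (by
      rw [← quotientR (norm_der n4) (norm_der n5), ← quotient_coprime_subcent
        (hRQ.trans (norm_der n4)) (hRQ.trans n4) (coprimegS hc (inf_le_left.trans hWV))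
        (Or.inl (pgroup_sol hq.out (hQp.to_le hRQ)))]
      exact quotientS1 (H2.inf_centralizer_le_commutator (hRQ.trans n4) (coprimegS hc hWV) hWW.ge))
  by_contra h0
  exact (sol_der1_proper (pgroup_sol hp.out hWp) h0).not_ge ((quotient_sub1 hWM).1 h2)

theorem wl0 {p q : ℕ} [hp : Fact p.Prime] [hq : Fact q.Prime] (hne : p ≠ q) {H X : Subgroup Γ}
    (hH : Iv G A H) (hs : Group.IsSolvable H) (hπ : IsPi {p, q} H) (h0 : O[{p}ᶜ] H = ⊥)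
    (hX : Iv G A X) (hXp : IsPGroup p X) (hXH : X ≤ H) : ⁅X, A⁆ ≤ O[{p}] H := by
  obtain ⟨P, hP⟩ := m.exists_isyl p
  have e : O[{q}ᶜ] H = O[{p}] H := eq_in_pcore fun s hs hd => by
    rcases hπ.mem hs hd with rfl | rfl
    · simp [hne]
    · simp [hne.symm]
  have hO : Iv G A (O2 {q}ᶜ {q} H) := ⟨(O2_sub _ _ _).trans hH.1, le_norm_O2 _ _ hH.2⟩
  obtain ⟨Q, hQ, hQi⟩ := m.exists_syl hO q
  have hQH : Q ≤ H := hQ.le.trans (O2_sub _ _ _)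
  have hN := hH.inf_norm hQi.2
  have hY := hP.iv.inf hN.2
  have hYp : IsPGroup p ↥(P ⊓ (H ⊓ 𝐍(Q))) := hP.syl.isP.to_inf_left
  have hV := hH.pcore {p}
  have hVp := pcore_isPGroup p H
  have h1 : X ≤ O[{p}] H ⊔ P ⊓ (H ⊓ 𝐍(Q)) := by
    refine (le_inf (hP.max X hX hXp) hXH).trans (syl_le_sup (pcore_normal _ H) inf_le_left ?_
      (m.syl_inf hP hN) (inf_le_inf_left _ inf_le_left) inf_le_right hP.syl.isP.to_inf_left)
    refine (Frattini_arg hq.out (O2_normal _ _ H) hQ).sup_eq.ge.trans (sup_le ?_ le_sup_right)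
    rw [← O2_eq_sup_of_Syl hQ, e]
    exact sup_le_sup_left (le_inf hQH le_normalizer) _
  have hYH : P ⊓ (H ⊓ 𝐍(Q)) ≤ H := inf_le_right.trans inf_le_left
  have hYQ : P ⊓ (H ⊓ 𝐍(Q)) ≤ 𝐍(Q) := inf_le_right.trans inf_le_right
  generalize P ⊓ (H ⊓ 𝐍(Q)) = Y at *
  have h2 : ⁅Y, A⁆ ≤ 𝐂(Q) := by
    refine m.comm_le_of_gen hY (H2.le_normalizer_centralizer hYQ) fun a ha h1 => ?_
    have hi := m.iv_cent1 hY ha
    have hle : ⁅Y ⊓ 𝐂[a], A⁆ ≤ Y := (th_le hi).trans inf_le_left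
    have h3 := m.wl2 hne ha h1 (iv_th hi) (hYp.to_le hle) (m.th_th hi).ge
      ((th_le hi).trans inf_le_right) hQi hQ.isP hV hVp (hle.trans hYQ)
      (hQH.trans (pcore_norm _ _)) (hle.trans (hYH.trans (pcore_norm _ _)))
    have h4 : ⁅Q, ⁅Y ⊓ 𝐂[a], A⁆⁆ ≤ Q := H2.commutator_le_of_le_normalizer (hle.trans hYQ)
    rw [centsC, ← commutator_eq_bot_iff_le_centralizer, ← le_bot_iff,
      ← inf_eq_bot_of_p' (isPi_compl_of_ne hQ.isP hne.symm) hVp]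
    exact le_inf h4 ((le_inf (h4.trans hQH) h3).trans (cent_pcore_le hs h0))
  have h3 : ⁅Y, A⁆ ≤ O[{p}] H := e ▸ le_p'core_of_le_O2
    (isPi_compl_of_ne (hYp.to_le (th_le hY)) hne)
    ((le_inf ((th_le hY).trans hYH) h2).trans (BG.solvable_p_constrained hs hQ))
  exact (commutator_mono h1 le_rfl).trans (H2.commutator_sup_le le_normalizer
    (hYH.trans (pcore_norm _ _)) (th_le hV) h3)

theorem wl {p q : ℕ} [hp : Fact p.Prime] [hq : Fact q.Prime] (hne : p ≠ q) {H X : Subgroup Γ}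
    (hH : Iv G A H) (hs : Group.IsSolvable H) (hπ : IsPi {p, q} H)
    (hX : Iv G A X) (hXp : IsPGroup p X) (hXH : X ≤ H) : ⁅X, A⁆ ≤ O2 {p}ᶜ {p} H := by
  have hK := hH.pcore {p}ᶜ
  rw [sub_O2_iff ((th_le hX).trans hXH), quotientR (hXH.trans (pcore_norm _ _)) hK.2]
  exact (m.quo hK).wl0 hne (iv_quo hH _) (quotient_sol _ hs) (quotient_pgroup _ hπ)
    (trivg_pcore_quotient _ _) (iv_quo hX _) (quotient_isPGroup _ hXp) (quotientS _ hXH)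

theorem wlc {p q : ℕ} [hp : Fact p.Prime] [hq : Fact q.Prime] (hne : p ≠ q) {H X : Subgroup Γ}
    (hH : Iv G A H) (hs : Group.IsSolvable H) (hπ : IsPi {p, q} H)
    (hX : Iv G A X) (hXp : IsPGroup p X) (hXH : X ≤ H) (h : ⁅X, A⁆ ≤ 𝐂(O[{p}ᶜ] H)) :
    ⁅X, A⁆ ≤ O[{p}] H :=
  le_pcore_of_O2_cent (hXp.to_le (th_le hX)) (m.wl hne hH hs hπ hX hXp hXH) h

end Hz

end H59.Pt
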