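import Mathlib
import Cfsg.Agent.Base
import Cfsg.Agent.Lib.Pet59.Hz
import Cfsg.Agent.Lib.FGS.PLength
import Cfsg.Agent.Lib.FF.EAGL
import Cfsg.Agent.Lib.Thompson.Factor
import Cfsg.Agent.S0621

/-! The minimal counterexample: maximal invariant subgroups for a pair of primes. -/

set_option autoImplicit false
set_option linter.unusedSectionVars false
set_option linter.unusedVariables false

namespace H59.Pt

open Cfsg H69 H45 H43 Subgroup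
open scoped commutatorElement

universe u
variable {Γ : Type u} [Group Γ] [Finite Γ]
variable {r : ℕ} [hr : Fact r.Prime] {G A B : Subgroup Γ}

theorem Hy.fact (m : Hy r G A) {p : ℕ} [hp : Fact p.Prime] {H S M : Subgroup Γ} (hH : Iv G A H)
    (hs : Group.IsSolvable H) (h0 : O[{p}ᶜ] H = ⊥) (hS : Syl p S H)
    (h1 : H ⊓ 𝐍(thompsonSubgroupOf p S) ≤ M) (h2 : H ⊓ 𝐍(omegaOne p (S ⊓ 𝐂(S))) ≤ M) : H ≤ M := by
  have h3 : pPrimeCore p H = ⊥ := by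
    rwa [pcore_compl_eq_pPrimeCore, map_eq_bot_iff_of_injective _ H.subtype_injective] at h0
  by_cases hf : IsThompsonFactorizable p H
  · obtain ⟨T, hT⟩ := hS.exists_sylow_subgroupOf
    have hk : H.subtype.ker ⊓ (T : Subgroup H) = ⊥ := by rw [ker_subtype, bot_inf_eq]
    have e : (T : Subgroup H).map H.subtype = S := by rw [hT, map_subgroupOf_eq_of_le hS.le]
    intro g hg
    obtain ⟨x, hx, c, hc, n, hn, e'⟩ := hf T ⟨g, hg⟩
    rw [h3, mem_bot] at hx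
    subst hx
    rw [one_mul] at e'
    rw [show g = c * n from congrArg Subtype.val e']
    refine mul_mem (h2 ⟨c.2, ?_⟩) (h1 ⟨n.2, ?_⟩)
    · rw [← e, ← H24.map_omegaOne_center_of_disjoint hk]
      exact le_normalizer_map H.subtype ⟨c, centralizer_le_normalizer _ hc, rfl⟩
    · rw [← e, ← H24.map_thompsonSubgroupOf_of_disjoint hk]
      exact le_normalizer_map H.subtype ⟨n, hn, rfl⟩
  obtain ⟨h4, W, D, -, hD, -, -, -, hn, ⟨e⟩⟩ := Cfsg.Agent.S0621.result H A hH.2 m.elem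
    (m.not_dvd hH.1) H76.isPSolvable_of_isSolvable h3 hf
  refine (m.odd (dvd_trans ?_ (card_dvd_of_le (hD.trans (inf_le_inf_right _ hH.1))))).elim
  refine dvd_trans ?_ (card_quotient_dvd_card ((𝐂(W)).subgroupOf D))
  rw [Nat.card_congr e.toEquiv, H10.card_SL_two, Nat.card_zmod]
  rcases h4 with rfl | rfl <;> norm_num

/-- A minimal counterexample. -/
structure Mn (r : ℕ) (G A : Subgroup Γ) : Prop extends Hy r G A where
  nsol : ¬ Group.IsSolvable G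
  sol : ∀ K, K < G → A ≤ 𝐍(K) → Group.IsSolvable K
  simp : ∀ K ≤ G, K ≠ ⊥ → A ≤ 𝐍(K) → G ≤ 𝐍(K) → K = G
  fai : ∀ a ∈ A, a ≠ 1 → ¬ G ≤ 𝐂[a]

namespace Mn

variable (m : Mn r G A)
include m

theorem norm_lt {K : Subgroup Γ} (h : Iv G A K) (h1 : K ≠ ⊥) (hs : Group.IsSolvable K) :
    G ⊓ 𝐍(K) < G := by
  refine lt_of_le_of_ne inf_le_left fun e => m.nsol ?_
  rwa [← m.simp K h.1 h1 h.2 (e.ge.trans inf_le_right)]

theorem norm_sol {K : Subgroup Γ} (h : Iv G A K) (h1 : K ≠ ⊥) (hs : Group.IsSolvable K) :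
    Group.IsSolvable ↥(G ⊓ 𝐍(K)) := m.sol _ (m.norm_lt h h1 hs) (m.iv_self.inf_norm h.2).2

theorem cent_sol {a : Γ} (ha : a ∈ A) (h1 : a ≠ 1) : Group.IsSolvable ↥(G ⊓ 𝐂[a]) :=
  m.sol _ (lt_of_le_of_ne inf_le_left fun e => m.fai a ha h1 (e.ge.trans inf_le_right))
    (m.iv_cent1 m.iv_self ha).2

theorem norm_pi {π : Set ℕ} {V H K : Subgroup Γ} (hV : Iv G A V) (h0 : V ≠ ⊥)
    (hs : Group.IsSolvable V) (hH : IP G A π H) (hK : IP G A π K) (h1 : H ≤ 𝐍(V))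
    (h2 : K ≤ 𝐍(V)) : IsPi π (H ⊔ K) :=
  m.join_pi (m.iv_self.inf_norm hV.2) (m.norm_sol hV h0 hs) hH hK (le_inf hH.1.1 h1)
    (le_inf hK.1.1 h2)

theorem cent_pi {π : Set ℕ} {H K : Subgroup Γ} {a : Γ} (ha : a ∈ A) (h1 : a ≠ 1)
    (hH : IP G A π H) (hK : IP G A π K) (h2 : H ≤ 𝐂[a]) (h3 : K ≤ 𝐂[a]) : IsPi π (H ⊔ K) :=
  m.join_pi (m.iv_cent1 m.iv_self ha) (m.cent_sol ha h1) hH hK (le_inf hH.1.1 h2)
    (le_inf hK.1.1 h3)

end Mn

/-- A minimal counterexample of rank two, with the fixed points added to the operators. -/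
structure Mz (r : ℕ) (G A B : Subgroup Γ) : Prop extends Mn r G A where
  card : Nat.card A = r ^ 2
  hB : B = A ⊔ G ⊓ 𝐂(A)

namespace Mz

variable (m : Mz r G A B)
include m

theorem hz : Hz r G A := ⟨m.toHy, m.card⟩

theorem le_B : A ≤ B := m.hB ▸ le_sup_left

theorem iv {K : Subgroup Γ} (h : Iv G B K) : Iv G A K := ⟨h.1, m.le_B.trans h.2⟩

theorem ip {π : Set ℕ} {K : Subgroup Γ} (h : IP G B π K) : IP G A π K := ⟨m.iv h.1, h.2⟩

theorem B_cent : B ≤ 𝐂(A) := m.hB ▸ sup_le (ea_le_centralizer m.elem le_rfl) inf_le_right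

theorem ivG : Iv G B G := ⟨le_rfl, m.hB ▸ sup_le m.norm (inf_le_left.trans le_normalizer)⟩

theorem ivS {p : ℕ} [Fact p.Prime] {P : Subgroup Γ} (h : ISyl G A p P) : Iv G B P :=
  ⟨h.syl.le, m.hB ▸ sup_le h.norm (m.cent_norm h)⟩

theorem iv1 {K : Subgroup Γ} (h : Iv G B K) {a : Γ} (ha : a ∈ A) : Iv G B (K ⊓ 𝐂[a]) :=
  h.inf ((m.B_cent.trans (cent_le_cent1 ha)).trans le_normalizer)

theorem ivth {K : Subgroup Γ} (h : Iv G B K) : Iv G B ⁅K, A⁆ :=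
  ⟨(th_le (m.iv h)).trans h.1, H2.le_normalizer_commutator h.2 (cents_norm m.B_cent)⟩

theorem ivz {K : Subgroup Γ} (h : Iv G B K) {a : Γ} (ha : a ∈ A) : Iv G B ⁅K, zpowers a⁆ :=
  iv_comm h (cents_norm (centsS m.B_cent (zpowers_le.2 ha)))
    ((zpowers_le.2 ha).trans (m.iv h).2)

theorem join_norm {π : Set ℕ} {V H K : Subgroup Γ} (hV : Iv G B V) (h0 : V ≠ ⊥)
    (hs : Group.IsSolvable V) (hH : IP G B π H) (hK : IP G B π K) (h1 : H ≤ 𝐍(V))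
    (h2 : K ≤ 𝐍(V)) : IP G B π (H ⊔ K) :=
  ⟨hH.1.sup hK.1, m.norm_pi (m.iv hV) h0 hs (m.ip hH) (m.ip hK) h1 h2⟩

theorem le_max {π : Set ℕ} {V H K : Subgroup Γ} (hV : Iv G B V) (h0 : V ≠ ⊥)
    (hs : Group.IsSolvable V) (hH : Maximal (IP G B π) H) (hK : IP G B π K) (h1 : H ≤ 𝐍(V))
    (h2 : K ≤ 𝐍(V)) : K ≤ H :=
  le_sup_right.trans (hH.2 (m.join_norm hV h0 hs hH.1 hK h1 h2) le_sup_left)

theorem norm_th {p q : ℕ} [hp : Fact p.Prime] [hq : Fact q.Prime] (hne : p ≠ q)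
    {P T H : Subgroup Γ} (hP : ISyl G A p P) (hH : Iv G A H) (hPH : P ≤ H)
    (h : ⁅P, A⁆ ≤ O[{p}] H) (hT : Iv G A T) (hTp : IsPGroup q T) (hTH : T ≤ H) :
    T ≤ 𝐍(⁅P, A⁆) := by
  have hV := hH.pcore {p}
  have e : ⁅O[{p}] H, A⁆ = ⁅P, A⁆ := H2.commutator_eq_of_commutator_le hP.norm
    (m.coprime hP.syl.le) (hP.max _ hV (pcore_isPGroup p H)) h
  exact e ▸ m.star2 hne hV hT (pcore_isPGroup p H) hTp (hTH.trans (pcore_norm _ _))

end Mz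

/-- Two invariant Sylow subgroups not generating a group for the two primes. -/
structure Pr (r : ℕ) (G A B : Subgroup Γ) (π : Set ℕ) (p q : ℕ) (P Q : Subgroup Γ) : Prop where
  m : Mz r G A B
  ne : p ≠ q
  mem : π = {p, q}
  hP : ISyl G A p P
  hQ : ISyl G A q Q
  hn : ¬ IsPi π (P ⊔ Q)

namespace Pr

variable {π : Set ℕ} {p q : ℕ} [hp : Fact p.Prime] [hq : Fact q.Prime] {P Q : Subgroup Γ}
  (c : Pr r G A B π p q P Q)
include c

theorem symm : Pr r G A B π q p Q P :=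
  ⟨c.m, c.ne.symm, c.mem.trans (Set.pair_comm p q), c.hQ, c.hP, by rw [sup_comm]; exact c.hn⟩

theorem ip {D : Subgroup Γ} (h : Iv G B D) (hD : IsPGroup p D) : IP G B π D :=
  ⟨h, isPi_of_isPGroup hp.out hD (c.mem ▸ Or.inl rfl)⟩

theorem ivP : Iv G B P := c.m.ivS c.hP

theorem ipP : IP G B π P := c.ip c.ivP c.hP.syl.isP

theorem not_le {H : Subgroup Γ} (hH : IP G B π H) (h1 : P ≤ H) (h2 : Q ≤ H) : False :=
  c.hn (hH.2.of_le (sup_le h1 h2))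

theorem sol {H : Subgroup Γ} (hH : IP G B π H) : Group.IsSolvable H :=
  c.m.sol H (lt_of_le_of_ne hH.1.1 fun e =>
    c.not_le hH (e ▸ c.hP.syl.le) (e ▸ c.hQ.syl.le)) (c.m.iv hH.1).2

theorem core_eq {H : Subgroup Γ} (hH : IP G B π H) : O[{p}ᶜ] H = O[{q}] H :=
  eq_in_pcore fun s hs hd => by
    rcases c.mem ▸ hH.2.mem hs hd with rfl | rfl
    · simp [c.ne]
    · simp [c.ne.symm]

theorem cent (H : Subgroup Γ) : O[{p}] H ≤ 𝐂(O[{q}] H) :=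
  cent_pcore (Set.disjoint_singleton.2 c.ne) H

theorem ip_core {H : Subgroup Γ} (hH : IP G B π H) : IP G B π (O[{p}] H) :=
  c.ip (hH.1.pcore _) (pcore_isPGroup p H)

omit c in
theorem psol {D : Subgroup Γ} (hD : IsPGroup p D) : Group.IsSolvable D :=
  nilpotent_sol (pgroup_nil hD)

theorem core_le_P {H : Subgroup Γ} (hH : IP G B π H) : O[{p}] H ≤ P :=
  c.hP.max _ (c.m.iv (hH.1.pcore _)) (pcore_isPGroup p H)

theorem th_ne_bot : ⁅P, A⁆ ≠ ⊥ := fun h => c.hn (c.ipP.2.sup_of_norm' c.symm.ipP.2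
  ((le_inf c.hP.syl.le (commutator_eq_bot_iff_le_centralizer.1 h)).trans (c.m.cent_norm c.hQ)))

theorem core_le {H L V : Subgroup Γ} (hH : Maximal (IP G B π) H) (hL : IP G B π L)
    (hV : Iv G B V) (h0 : V ≠ ⊥) (hVp : IsPGroup p V) (h1 : H ≤ 𝐍(V)) (h2 : V ≤ L) :
    O[{q}] H ⊓ L ≤ O[{q}] L := by
  have h3 : L ⊓ 𝐍(V) ≤ H := c.m.le_max hV h0 (psol hVp) hH
    ⟨hL.1.inf_norm hV.2, hL.2.inf_left _⟩ h1 inf_le_right
  rw [← c.core_eq hL]
  refine le_p'core_of_norm_norm hVp h2 (c.sol hL) ?_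
    (le_inf inf_le_right (inf_le_left.trans ((pcore_sub _ _).trans h1)))
    (H2.le_normalizer_inf (h3.trans (pcore_norm _ _)) (inf_le_left.trans le_normalizer))
  rw [← c.core_eq hH.1]
  exact (pcore_pgroup _ _).inf_left _

theorem uniq {H L V U : Subgroup Γ} (hH : Maximal (IP G B π) H) (hL : Maximal (IP G B π) L)
    (hV : Iv G B V) (hV0 : V ≠ ⊥) (hV1 : V ≤ O[{p}] H) (hV2 : H ≤ 𝐍(V)) (hV3 : V ≤ L)
    (hU : Iv G B U) (hU0 : U ≠ ⊥) (hU1 : U ≤ O[{q}] H) (hU2 : H ≤ 𝐍(U)) (hU3 : U ≤ L) :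
    L = H := by
  have hVp := (pcore_isPGroup p H).to_le hV1
  have hUq := (pcore_isPGroup q H).to_le hU1
  have a1 := c.core_le hH hL.1 hV hV0 hVp hV2 hV3
  have a2 := c.symm.core_le hH hL.1 hU hU0 hUq hU2 hU3
  have b1 : U ≤ O[{q}] L := (le_inf hU1 hU3).trans a1
  have b2 : V ≤ O[{p}] L := (le_inf hV1 hV3).trans a2
  have c1 : O[{p}] L ≤ H := c.m.le_max hU hU0 (psol hUq) hH (c.ip_core hL.1) hU2
    (cents_norm (centsS (c.cent L) b1))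
  have c2 : O[{q}] L ≤ H := c.m.le_max hV hV0 (psol hVp) hH (c.symm.ip_core hL.1) hV2
    (cents_norm (centsS (c.symm.cent L) b2))
  have n1 : O[{p}] L ≠ ⊥ := fun h => hV0 (le_bot_iff.1 (h ▸ b2))
  have n2 : O[{q}] L ≠ ⊥ := fun h => hU0 (le_bot_iff.1 (h ▸ b1))
  have d1 : O[{q}] L ≤ O[{q}] H := (le_inf le_rfl c2).trans (c.core_le hL hH.1 (hL.1.1.pcore _) n1
    (pcore_isPGroup p L) (pcore_norm _ _) c1)
  have d2 : O[{p}] L ≤ O[{p}] H := (le_inf le_rfl c1).trans (c.symm.core_le hL hH.1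
    (hL.1.1.pcore _) n2 (pcore_isPGroup q L) (pcore_norm _ _) c2)
  have e1 : O[{p}] H ≤ L := c.m.le_max (hL.1.1.pcore _) n2 (psol (pcore_isPGroup q L)) hL
    (c.ip_core hH.1) (pcore_norm _ _) (cents_norm (centsS (c.cent H) d1))
  have e2 : O[{p}] H = O[{p}] L := le_antisymm ((le_inf le_rfl e1).trans a2) d2
  have e3 : L ≤ H := c.m.le_max (hL.1.1.pcore _) n1 (psol (pcore_isPGroup p L)) hH hL.1
    (e2 ▸ pcore_norm _ _) (pcore_norm _ _)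
  exact le_antisymm e3 (hL.2 hH.1 e3)

theorem lemB {H D L : Subgroup Γ} (hH : Maximal (IP G B π) H) (hV0 : O[{p}] H ≠ ⊥)
    (hD : Iv G B D) (hD0 : D ≠ ⊥) (e : D ≤ O[{q}] H) (hL : IP G B π L) (hn : L ≤ 𝐍(D)) :
    L ≤ H := by
  have hW := hH.1.1.pcore {q}
  have hWq := pcore_isPGroup q H
  have h0 : O[{q}] H ≠ ⊥ := fun h => hD0 (le_bot_iff.1 (h ▸ e))
  have hs := psol (hWq.to_le e)
  have n1 := cents_norm (centsS (c.cent H) e)
  have n2 := cents_norm (centsS (center_cent (O[{q}] H)) e)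
  obtain ⟨L', e', hL'⟩ := Finite.exists_le_maximal (c.m.join_norm hD hD0 hs hL
    (c.m.join_norm hD hD0 hs (c.ip_core hH.1) (c.symm.ip hW.zc hWq.to_inf_left) n1 n2) hn
    (sup_le n1 n2))
  rw [← c.uniq hH hL' (hH.1.1.pcore _) hV0 le_rfl (pcore_norm _ _)
    (le_sup_left.trans (le_sup_right.trans e')) hW.zc (center_nil_ne_bot (pgroup_nil hWq) h0)
    (center_le _) ((center_charIn _).norm_trans (pcore_norm _ _))
    (le_sup_right.trans (le_sup_right.trans e'))]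
  exact le_sup_left.trans e'

theorem cP_le {H : Subgroup Γ} (hH : Maximal (IP G B π) H) : P ⊓ 𝐂(A) ≤ H := by
  have h1 := c.ip (c.ivP.inf_cent (cents_norm c.m.B_cent)) c.hP.syl.isP.to_inf_left
  refine le_sup_right.trans (hH.2 ⟨hH.1.1.sup h1.1, hH.1.2.sup_of_norm h1.2 ?_⟩ le_sup_left)
  refine le_trans ?_ hH.1.1.2
  rw [c.m.hB]
  exact (inf_le_inf_right _ c.hP.syl.le).trans le_sup_right

theorem le_of_syl {H M : Subgroup Γ} (hH : IP G B π H) (h1 : P ⊓ H ≤ M) (h2 : Q ⊓ H ≤ M) :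
    H ≤ M := by
  refine le_of_forall_syl fun s hs => ?_
  rcases c.mem ▸ hH.2.mem_of_mem_primesOf hs with rfl | rfl
  · exact ⟨_, c.m.syl_inf c.hP (c.m.iv hH.1), h1⟩
  · exact ⟨_, c.m.syl_inf c.hQ (c.m.iv hH.1), h2⟩

theorem wl0 {H X : Subgroup Γ} (hH : IP G B π H) (h0 : O[{q}] H = ⊥) (hX : Iv G A X)
    (hXp : IsPGroup p X) (hXH : X ≤ H) : ⁅X, A⁆ ≤ O[{p}] H :=
  c.m.hz.wl0 c.ne (c.m.iv hH.1) (c.sol hH) (c.mem ▸ hH.2) ((c.core_eq hH).trans h0) hX hXp hXH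

theorem norm_th {H : Subgroup Γ} (hH : IP G B π H) (h0 : O[{q}] H = ⊥) (h : P ≤ H) :
    H ≤ 𝐍(⁅P, A⁆) :=
  c.le_of_syl hH (inf_le_left.trans (normalizer_commutator_ge_left _ _))
    (c.m.norm_th c.ne c.hP (c.m.iv hH.1) h (c.wl0 hH h0 c.hP.iv c.hP.syl.isP h)
      (c.hQ.iv.inf (c.m.iv hH.1).2) c.hQ.syl.isP.to_inf_left inf_le_right)

theorem wstar {H W : Subgroup Γ} (hH : Maximal (IP G B π) H) (h0 : O[{q}] H = ⊥) (hW : W ≤ Q)
    (hn : O[{p}] H ≤ 𝐍(W)) : W = ⊥ := by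
  let X : Subgroup Γ := ⨆ Y : {Y : Subgroup Γ // Y ≤ Q ∧ O[{p}] H ≤ 𝐍(Y)}, Y
  have h1 : X ≤ Q := iSup_le fun Y => Y.2.1
  have h2 : O[{p}] H ≤ 𝐍(X) := le_normalizer_iSup fun Y => Y.2.2
  have h3 : 𝐍(Q) ⊓ 𝐍(O[{p}] H) ≤ 𝐍(X) := fun g hg => by
    have : X ^ᶜ g ≤ X := le_iSup_of_le ⟨X ^ᶜ g, by
      rw [← cj_eq_of_mem_normalizer hg.1]; exact cj_mono g h1,
      le_normalizer_cj hg.2 h2⟩ le_rfl
    exact H24.mem_normalizer_of_conj_mem fun x hx => this ⟨x, hx, rfl⟩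
  have hS := c.hP.iv.inf (c.m.iv hH.1.1).2
  have h4 : H ≤ 𝐍(X) := by
    refine c.le_of_syl hH.1 ((c.m.dec hS).ge.trans (sup_le ?_ (le_trans (le_inf ?_ ?_) h3))) ?_
    · exact (c.wl0 hH.1 h0 hS c.hP.syl.isP.to_inf_left inf_le_right).trans h2
    · exact (inf_le_inf_right _ hS.1).trans (c.m.cent_norm c.hQ)
    · exact inf_le_left.trans (inf_le_right.trans (pcore_norm _ _))
    · exact (inf_le_inf le_normalizer (pcore_norm _ _)).trans h3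
  have hX := c.symm.ip ⟨h1.trans c.hQ.syl.le, (le_inf c.symm.ivP.2 (hH.1.1.pcore _).2).trans h3⟩
    (c.hQ.syl.isP.to_le h1)
  have h5 : X ≤ H := le_sup_right.trans (hH.2 ⟨hH.1.1.sup hX.1, hH.1.2.sup_of_norm' hX.2 h4⟩
    le_sup_left)
  rw [← le_bot_iff, ← h0]
  exact (le_iSup_of_le ⟨W, hW, hn⟩ le_rfl).trans
    (pcore_max_p (c.hQ.syl.isP.to_le h1) ⟨h5, h4⟩)

theorem type1 {H : Subgroup Γ} (hH : Maximal (IP G B π) H) (h0 : O[{q}] H = ⊥) : P ≤ H := by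
  generalize hS : P ⊓ H = S
  induction S using WellFoundedGT.induction generalizing H with
  | _ S ih =>
  subst hS
  by_contra hPH
  have hs := c.sol hH.1
  have hS := c.ivP.inf hH.1.1.2
  have hSp : IsPGroup p ↥(P ⊓ H) := c.hP.syl.isP.to_inf_left
  have h1 : O[{p}] H ≤ P ⊓ H := le_inf (c.core_le_P hH.1) (pcore_sub _ _)
  have hS0 : P ⊓ H ≠ ⊥ := fun e => by
    have : H = ⊥ := (trivg_Fitting hs).1 (by
      rw [Fitting_eq_pcore (p := p) ((c.core_eq hH.1).trans h0), ← le_bot_iff, ← e]; exact h1)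
    exact hPH (hH.2 c.ipP (this ▸ bot_le))
  have h2 := nilpotent_proper_norm (pgroup_nil c.hP.syl.isP)
    (lt_of_le_of_ne inf_le_left fun e => hPH (e.ge.trans inf_le_right) : P ⊓ H < P)
  have hN := c.ip (c.ivP.inf_norm hS.2) c.hP.syl.isP.to_inf_left
  have key : ∀ D ≤ P ⊓ H, D ≠ ⊥ → 𝐍(P ⊓ H) ≤ 𝐍(D) → H ⊓ 𝐍(D) ≤ 𝐍(⁅P, A⁆) := by
    intro D e hD0 hn
    have hD : Iv G B D := ⟨e.trans hS.1, hS.2.trans hn⟩
    obtain ⟨L, e', hL⟩ := Finite.exists_le_maximal (c.m.join_norm hD hD0 (psol (hSp.to_le e))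
      ⟨hH.1.1.inf_norm hD.2, hH.1.2.inf_left _⟩ hN inf_le_right (inf_le_right.trans hn))
    have h3 : P ⊓ 𝐍(P ⊓ H) ≤ L := le_sup_right.trans e'
    have h4 : O[{q}] L = ⊥ := c.wstar hH h0 (c.symm.core_le_P hL.1)
      (h1.trans (h2.le.trans (h3.trans (pcore_norm _ _))))
    exact (le_sup_left.trans e').trans (c.norm_th hL.1 h4
      (ih _ (h2.trans_le (le_inf inf_le_left h3)) hL h4 rfl))
  have h5 : H ≤ 𝐍(⁅P, A⁆) := c.m.toHy.fact (c.m.iv hH.1.1) hs ((c.core_eq hH.1).trans h0)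
    (c.m.syl_inf c.hP (c.m.iv hH.1.1))
    (key _ (H24.thompsonSubgroupOf_le _) (H24.thompsonSubgroupOf_ne_bot
      (mem_primesOf_of_isPGroup hp.out hSp hS0 le_rfl).2)
      (H24.normalizer_le_normalizer_thompsonSubgroupOf _))
    (key _ ((H24.omegaOne_le _).trans inf_le_left) (H24.omegaOne_center_ne_bot hSp hS0)
      ((H24.normalizer_le_normalizer_center _).trans (H24.normalizer_le_normalizer_omegaOne _)))
  exact hPH (c.m.le_max (c.m.ivth c.ivP) c.th_ne_bot (psol (c.hP.syl.isP.to_le (th_le c.hP.iv)))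
    hH c.ipP h5 (normalizer_commutator_ge_left _ _))

end Pr

end H59.Pt
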