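import Mathlib
import Cfsg.Agent.Base
import Cfsg.Agent.Lib.Pet59.Mn

/-! Permutability of invariant Sylow subgroups with a common point of support. -/

set_option autoImplicit false
set_option linter.unusedSectionVars false
set_option linter.unusedVariables false

namespace H59.Pt

open Cfsg H69 H45 H43 Subgroup
open scoped commutatorElement

universe u
variable {Γ : Type u} [Group Γ] [Finite Γ]
variable {r : ℕ} [hr : Fact r.Prime] {G A B : Subgroup Γ}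

theorem Mz.tcomm (m : Mz r G A B) {p q : ℕ} [hp : Fact p.Prime] [hq : Fact q.Prime] (hne : p ≠ q)
    {X Y : Subgroup Γ} (hX : Iv G A X) (hY : Iv G A Y) (h1 : IsPGroup p X) (h2 : IsPGroup q Y)
    {a : Γ} (ha : a ∈ A) (ha1 : a ≠ 1) : ⁅X ⊓ 𝐂[a], A⁆ ≤ 𝐂(⁅Y ⊓ 𝐂[a], A⁆) := by
  have hX' := m.iv_cent1 hX ha
  have hY' := m.iv_cent1 hY ha
  have hπ : IsPi {p, q} (X ⊓ 𝐂[a] ⊔ Y ⊓ 𝐂[a]) := m.cent_pi ha ha1
    ⟨hX', isPi_of_isPGroup hp.out h1.to_inf_left (Or.inl rfl)⟩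
    ⟨hY', isPi_of_isPGroup hq.out h2.to_inf_left (Or.inr rfl)⟩ inf_le_right inf_le_right
  have hc : X ⊓ 𝐂[a] ⊔ Y ⊓ 𝐂[a] ≤ 𝐂[a] := sup_le inf_le_right inf_le_right
  have hH := hX'.sup hY'
  have hs := solvableS (m.cent_sol ha ha1) (le_inf hH.1 hc)
  have a1 := m.hz.t0 hne.symm ha ha1 (iv_th hX') (h1.to_inf_left.to_le (th_le hX'))
    (m.th_th hX').ge hH hs ((th_le hX').trans le_sup_left) hc
  have a2 := m.hz.t0 hne ha ha1 (iv_th hY') (h2.to_inf_left.to_le (th_le hY'))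
    (m.th_th hY').ge hH hs ((th_le hY').trans le_sup_right) hc
  have e : O[{q}ᶜ] (X ⊓ 𝐂[a] ⊔ Y ⊓ 𝐂[a]) = O[{p}] (X ⊓ 𝐂[a] ⊔ Y ⊓ 𝐂[a]) :=
    eq_in_pcore fun s hs hd => by
      rcases hπ.mem hs hd with rfl | rfl
      · simp [hne]
      · simp [hne.symm]
  exact centsS ((e ▸ a1).trans (cent_pcoreC _ _)) a2

namespace Pr

variable {π : Set ℕ} {p q : ℕ} [hp : Fact p.Prime] [hq : Fact q.Prime] {P Q : Subgroup Γ}
  (c : Pr r G A B π p q P Q)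
include c

theorem ipth {a : Γ} (ha : a ∈ A) : IP G B π ⁅P ⊓ 𝐂[a], A⁆ :=
  c.ip (c.m.ivth (c.m.iv1 c.ivP ha))
    (c.hP.syl.isP.to_inf_left.to_le (th_le (c.m.iv_cent1 c.hP.iv ha)))

theorem le_of_th {H : Subgroup Γ} (hH : Maximal (IP G B π) H) {b : Γ} (hb : b ∈ A)
    (h1 : ⁅P ⊓ 𝐂[b], A⁆ ≤ H) (h2 : ∀ a ∈ A, a ∉ zpowers b → ⁅P ⊓ 𝐂[a], A⁆ ≤ H) : P ≤ H := by
  have key : ∀ a ∈ A, ⁅P ⊓ 𝐂[a], A⁆ ≤ H → P ⊓ 𝐂[a] ≤ H := fun a ha h =>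
    (c.m.dec (c.m.iv_cent1 c.hP.iv ha)).ge.trans
      (sup_le h ((inf_le_inf_right _ inf_le_left).trans (c.cP_le hH)))
  exact c.m.hz.gen2 c.hP.iv hb (key b hb h1) fun a ha h => key a ha (h2 a ha h)

theorem not_th_le {H : Subgroup Γ} (hH : Maximal (IP G B π) H) (hg : ∀ e ∈ A, e ≠ 1 → ¬ Q ≤ 𝐂[e])
    (hV0 : O[{p}] H ≠ ⊥) (hW0 : O[{q}] H ≠ ⊥) (hQH : ¬ Q ≤ H) : ¬ ⁅Q ⊓ H, A⁆ ≤ O[{q}] H := by
  intro h
  have hS := c.symm.ivP.inf hH.1.1.2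
  have hQp := c.hQ.syl.isP
  have h2 := nilpotent_proper_norm (pgroup_nil hQp)
    (lt_of_le_of_ne inf_le_left fun e => hQH (e.ge.trans inf_le_right) : Q ⊓ H < Q)
  have hN := c.symm.ivP.inf_norm hS.2
  refine h2.not_ge (le_inf inf_le_left (c.m.hz.gen (c.m.iv hN) fun e he he1 => ?_))
  have hz : zpowers e ≤ A := zpowers_le.2 he
  by_cases h0 : ⁅Q ⊓ H, zpowers e⁆ = ⊥
  · refine (hg e he he1 ?_).elim
    rw [← cent_cycle, centsC]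
    have h3 := commutator_eq_bot_iff_le_centralizer.1 h0
    refine H2.le_centralizer_of_centralizer_le (pgroup_nil hQp) (hz.trans c.hQ.norm)
      (c.m.coprimez c.hQ.syl.le he) inf_le_left h3 (le_trans (le_inf inf_le_left ?_) h3)
    exact c.m.le_max (hH.1.1.pcore _) hW0 (psol (pcore_isPGroup q H)) hH
      (c.symm.ip (c.symm.ivP.inf_cent hS.2) hQp.to_inf_left) (pcore_norm _ _)
      (cents_norm (centsS inf_le_right (le_inf (c.symm.core_le_P hH.1) (pcore_sub _ _))))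
  exact c.lemB hH hV0 (c.m.ivz hS he) h0 ((commutator_mono le_rfl hz).trans h)
    (c.symm.ip (c.m.iv1 hN he) hQp.to_inf_left.to_inf_left)
    (H2.le_normalizer_commutator (inf_le_left.trans inf_le_right)
      (cents_norm (inf_le_right.trans (cent_cycle e).ge)))

theorem type3 {H : Subgroup Γ} (hH : Maximal (IP G B π) H) (hg : ∀ e ∈ A, e ≠ 1 → ¬ Q ≤ 𝐂[e])
    (hV0 : O[{p}] H ≠ ⊥) (hW0 : O[{q}] H ≠ ⊥) : Q ≤ H := by
  by_contra hQH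
  have m := c.m
  have hS := m.iv (c.symm.ivP.inf hH.1.1.2)
  have hQp := c.hQ.syl.isP
  have hV := hH.1.1.pcore {p}
  have hVp := pcore_isPGroup p H
  have h1 : ¬ ⁅Q ⊓ H, A⁆ ≤ 𝐂(O[{p}] H) := fun h => c.not_th_le hH hg hV0 hW0 hQH
    (m.hz.wlc c.ne.symm (m.iv hH.1.1) (c.sol hH.1) (c.symm.mem ▸ hH.1.2) hS hQp.to_inf_left
      inf_le_right (by rwa [c.symm.core_eq hH.1]))
  have key : ∀ a ∈ A, a ≠ 1 → ⁅O[{p}] H ⊓ 𝐂[a], A⁆ ≠ ⊥ → ⁅Q ⊓ 𝐂[a], A⁆ ≤ H := fun a ha ha1 h =>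
    c.symm.lemB hH hW0 (m.ivth (m.iv1 hV ha)) h
      ((th_le (m.iv_cent1 (m.iv hV) ha)).trans inf_le_left) (c.symm.ipth ha)
      (cents_norm (m.tcomm c.ne.symm c.hQ.iv (m.iv hV) hQp hVp ha ha1))
  refine h1 (m.hz.comm_le_of_gen hS (H2.le_normalizer_centralizer
    (inf_le_right.trans (pcore_norm _ _))) fun b hb hb1 => ?_)
  by_contra h2
  have hi := m.iv_cent1 hS hb
  have h3 : ∀ a ∈ A, a ∉ zpowers b → ⁅Q ⊓ 𝐂[a], A⁆ ≤ H := fun a ha hab =>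
    key a ha (ne_one_of_ind hab) fun e => h2 (m.hz.l1i c.ne hb hb1 ha hab (iv_th hi)
      (hQp.to_inf_left.to_inf_left.to_le (th_le hi)) (m.th_th hi).ge
      ((th_le hi).trans inf_le_right) (m.iv hV) hVp
      ((th_le hi).trans (inf_le_left.trans (inf_le_right.trans (pcore_norm _ _))))
      (e.le.trans bot_le))
  by_cases h4 : ⁅O[{p}] H ⊓ 𝐂[b], A⁆ = ⊥
  swap
  · exact hQH (c.symm.le_of_th hH hb (key b hb hb1 h4) h3)
  have h5 : ⁅Q, zpowers b⁆ ≤ 𝐂(O[{p}] H) :=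
    m.hz.comm_le_of_theta c.hQ.iv hQp hb hb1 fun a ha hab => by
      have hj := m.iv_cent1 c.hQ.iv ha
      exact m.hz.l1i c.ne ha (ne_one_of_ind hab) hb (m.hz.ind_symm hb hb1 ha hab) (iv_th hj)
        (hQp.to_inf_left.to_le (th_le hj)) (m.th_th hj).ge ((th_le hj).trans inf_le_right)
        (m.iv hV) hVp ((h3 a ha hab).trans (pcore_norm _ _)) (h4.le.trans bot_le)
  have h6 : ⁅Q, zpowers b⁆ ≠ ⊥ := fun e =>
    hg b hb hb1 (cent_cycle b ▸ commutator_eq_bot_iff_le_centralizer.1 e)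
  have hR := m.ivz c.symm.ivP hb
  obtain ⟨L, e, hL⟩ := Finite.exists_le_maximal (m.join_norm hR h6 (psol (hQp.to_le
    (H2.commutator_le_of_le_normalizer ((zpowers_le.2 hb).trans c.hQ.norm))))
    (c.ip_core hH.1) c.symm.ipP (cents_norm (centsC.1 h5)) (normalizer_commutator_ge_left _ _))
  have h7 : Q ≤ L := le_sup_right.trans e
  rw [c.uniq hH hL hV hV0 le_rfl (pcore_norm _ _) (le_sup_left.trans e) (hH.1.1.pcore _) hW0 le_rfl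
    (pcore_norm _ _) ((c.symm.core_le_P hH.1).trans h7)] at h7
  exact hQH h7

theorem cases {H : Subgroup Γ} (hH : Maximal (IP G B π) H) (hg : ∀ e ∈ A, e ≠ 1 → ¬ Q ≤ 𝐂[e]) :
    Q ≤ H ∨ O[{q}] H = ⊥ := by
  by_cases h1 : O[{p}] H = ⊥
  · exact Or.inl (c.symm.type1 hH h1)
  by_cases h2 : O[{q}] H = ⊥
  · exact Or.inr h2
  exact Or.inl (c.type3 hH hg h1 h2)

theorem core_eq_bot {H : Subgroup Γ} (hH : Maximal (IP G B π) H)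
    (hg : ∀ e ∈ A, e ≠ 1 → ¬ Q ≤ 𝐂[e]) (h : P ≤ H) : O[{q}] H = ⊥ :=
  (c.cases hH hg).resolve_left (c.not_le hH.1 h)

theorem eq_of_le {H L : Subgroup Γ} (hH : Maximal (IP G B π) H) (hL : Maximal (IP G B π) L)
    (hg : ∀ e ∈ A, e ≠ 1 → ¬ Q ≤ 𝐂[e]) (h1 : P ≤ H) (h2 : P ≤ L) : L ≤ H :=
  c.m.le_max (c.m.ivth c.ivP) c.th_ne_bot (psol (c.hP.syl.isP.to_le (th_le c.hP.iv))) hH hL.1
    (c.norm_th hH.1 (c.core_eq_bot hH hg h1) h1) (c.norm_th hL.1 (c.core_eq_bot hL hg h2) h2)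

theorem pl_one (hg : ∀ e ∈ A, e ≠ 1 → ¬ Q ≤ 𝐂[e]) {a : Γ} (ha : a ∈ A) (ha1 : a ≠ 1)
    (h1 : P ≤ 𝐂[a]) : ⁅Q ⊓ 𝐂[a], A⁆ = ⊥ := by
  by_contra h0
  have m := c.m
  have hD := c.symm.ipth ha
  have hDq := c.hQ.syl.isP.to_inf_left.to_le (th_le (m.iv_cent1 c.hQ.iv ha))
  have h2 : P ≤ 𝐍(⁅Q ⊓ 𝐂[a], A⁆) := by
    refine (m.dec c.hP.iv).ge.trans (sup_le ?_ (le_trans ?_ hD.1.2))
    · have := m.tcomm c.ne c.hP.iv c.hQ.iv c.hP.syl.isP c.hQ.syl.isP ha ha1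
      rw [inf_of_le_left h1] at this
      exact cents_norm this
    · rw [m.hB]
      exact (inf_le_inf_right _ c.hP.syl.le).trans le_sup_right
  obtain ⟨H, e, hH⟩ := Finite.exists_le_maximal
    (m.join_norm hD.1 h0 (psol hDq) c.ipP hD h2 le_normalizer)
  have h3 : P ≤ H := le_sup_left.trans e
  have h4 := le_p'core_of_syl_norm (c.sol hH.1) (m.syl_inf c.hP (m.iv hH.1.1))
    (le_sup_right.trans e) (isPi_compl_of_ne hDq c.ne.symm) (inf_le_left.trans h2)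
  rw [c.core_eq hH.1, c.core_eq_bot hH hg h3] at h4
  exact h0 (le_bot_iff.1 h4)

theorem ip_th2 {a : Γ} (ha : a ∈ A) (ha1 : a ≠ 1) :
    IP G B π (⁅P ⊓ 𝐂[a], A⁆ ⊔ ⁅Q ⊓ 𝐂[a], A⁆) :=
  ⟨(c.ipth ha).1.sup (c.symm.ipth ha).1, (c.ipth ha).2.sup_of_norm' (c.symm.ipth ha).2
    (cents_norm (c.m.tcomm c.ne c.hP.iv c.hQ.iv c.hP.syl.isP c.hQ.syl.isP ha ha1))⟩

theorem half (hg : ∀ e ∈ A, e ≠ 1 → ¬ Q ≤ 𝐂[e]) (hg' : ∀ e ∈ A, e ≠ 1 → ¬ P ≤ 𝐂[e])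
    {H : Subgroup Γ} (hH : Maximal (IP G B π) H) (hPH : P ≤ H) {a : Γ} (ha : a ∈ A) (ha1 : a ≠ 1)
    (h1 : ⁅Q ⊓ 𝐂[a], A⁆ ≤ H) : ⁅Q ⊓ 𝐂[a], A⁆ = ⊥ := by
  by_contra h0
  have m := c.m
  have hO := c.core_eq_bot hH hg hPH
  refine c.not_le hH.1 hPH (c.symm.le_of_th hH ha h1 fun d hd hda => ?_)
  obtain ⟨L, e, hL⟩ := Finite.exists_le_maximal (c.ip_th2 hd (ne_one_of_ind hda))
  rcases c.cases hL hg with h | h
  swap
  · exact le_sup_right.trans (e.trans (c.eq_of_le hH hL hg hPH (c.type1 hL h)))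
  exfalso
  have hi := m.iv_cent1 c.hQ.iv ha
  have hUq := c.hQ.syl.isP.to_inf_left.to_le (th_le hi)
  have hV := m.iv (hH.1.1.pcore {p})
  have h2 : ⁅P ⊓ 𝐂[d], A⁆ ≤ 𝐂(⁅Q ⊓ 𝐂[a], A⁆) := by
    rw [← commutator_eq_bot_iff_le_centralizer, ← le_bot_iff, ← coprime_TIg
      (coprime_of_isPGroup_of_isPGroup hp.out hq.out c.ne c.hP.syl.isP c.hQ.syl.isP)]
    refine le_inf ?_ ?_
    · exact (commutator_mono (commutator_mono inf_le_left le_rfl) le_rfl).trans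
        ((H2.commutator_le_of_le_normalizer (h1.trans (c.norm_th hH.1 hO hPH))).trans
          (th_le c.hP.iv))
    · exact (commutator_mono le_rfl (commutator_mono inf_le_left le_rfl)).trans
        ((le_normalizer_iff_commutator_le_right.1 ((le_sup_left.trans e).trans
          (c.symm.norm_th hL.1 (c.symm.core_eq_bot hL hg' h) h))).trans (th_le c.hQ.iv))
  have h3 := m.hz.l1i c.ne ha ha1 hd hda (iv_th hi) hUq (m.th_th hi).ge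
    ((th_le hi).trans inf_le_right) hV (pcore_isPGroup p H) (h1.trans (pcore_norm _ _))
    ((commutator_mono (inf_le_inf_right _ (c.core_le_P hH.1)) le_rfl).trans h2)
  apply h0
  rw [← le_bot_iff, ← inf_eq_bot_of_p' (isPi_compl_of_ne hUq c.ne.symm) (pcore_isPGroup p H)]
  exact le_inf le_rfl ((le_inf h1 h3).trans
    (cent_pcore_le (c.sol hH.1) ((c.core_eq hH.1).trans hO)))

theorem le_cent_of_bad {a : Γ} (ha : a ∈ A) (ha1 : a ≠ 1) (h1 : ⁅P ⊓ 𝐂[a], A⁆ ≠ ⊥)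
    (hg : ¬ ∀ e ∈ A, e ≠ 1 → ¬ P ≤ 𝐂[e]) : P ≤ 𝐂[a] := by
  push Not at hg
  obtain ⟨e, he, he1, h⟩ := hg
  by_cases h2 : a ∈ zpowers e
  · exact h.trans (c.m.hz.cent_le_of_mem ha (by
      by_contra h3
      exact c.m.hz.ind_symm ha ha1 he h3 h2) he1)
  · exact (h1 (commutator_eq_bot_iff_le_centralizer.2 (c.m.hz.cent_ind he he1 ha h2 h))).elim

theorem pl {a : Γ} (ha : a ∈ A) (ha1 : a ≠ 1) (h1 : ⁅P ⊓ 𝐂[a], A⁆ ≠ ⊥) : ⁅Q ⊓ 𝐂[a], A⁆ = ⊥ := by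
  by_contra h2
  by_cases hg : ∀ e ∈ A, e ≠ 1 → ¬ Q ≤ 𝐂[e]
  · by_cases hg' : ∀ e ∈ A, e ≠ 1 → ¬ P ≤ 𝐂[e]
    · obtain ⟨L, e, hL⟩ := Finite.exists_le_maximal (c.ip_th2 ha ha1)
      rcases c.cases hL hg with h | h
      · exact h1 (c.symm.half hg' hg hL h ha ha1 (le_sup_left.trans e))
      · exact h2 (c.half hg hg' hL (c.type1 hL h) ha ha1 (le_sup_right.trans e))
    · exact h2 (c.pl_one hg ha ha1 (c.le_cent_of_bad ha ha1 h1 hg'))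
  · have h3 := c.symm.le_cent_of_bad ha ha1 h2 hg
    by_cases hg' : ∀ e ∈ A, e ≠ 1 → ¬ P ≤ 𝐂[e]
    · exact h1 (c.symm.pl_one hg' ha ha1 h3)
    · exact c.hn (c.m.cent_pi ha ha1 (c.m.ip c.ipP) (c.m.ip c.symm.ipP)
        (c.le_cent_of_bad ha ha1 h1 hg') h3)

end Pr

end H59.Pt
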