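import Mathlib
import Cfsg.Agent.Base
import Cfsg.Agent.Lib.Pet59.Pl
import Cfsg.Agent.Lib.Char.BurnsidePQ

/-! The global argument in rank two: every prime is small. -/

set_option autoImplicit false
set_option linter.unusedSectionVars false
set_option linter.unusedVariables false

namespace H59.Pt

open Cfsg H69 H45 H43 Subgroup
open scoped commutatorElement

universe u
variable {Γ : Type u} [Group Γ] [Finite Γ]
variable {r : ℕ} [hr : Fact r.Prime] {G A B : Subgroup Γ}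

/-- Invariant `p`-subgroups are centralized by the invariant coprime groups `U = [U, A]` of prime
power order normalizing them. -/
structure Sm (G A : Subgroup Γ) (p : ℕ) : Prop where
  cent : ∀ (u : ℕ) [Fact u.Prime] {U V : Subgroup Γ}, p ≠ u → Iv G A U → IsPGroup u U →
    U ≤ ⁅U, A⁆ → Iv G A V → IsPGroup p V → U ≤ 𝐍(V) → U ≤ 𝐂(V)

theorem core_pair {p q : ℕ} (hne : p ≠ q) {H : Subgroup Γ} (hπ : IsPi {p, q} H) :
    O[{p}ᶜ] H = O[{q}] H :=
  eq_in_pcore fun s hs hd => by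
    rcases hπ.mem hs hd with rfl | rfl
    · simp [hne]
    · simp [hne.symm]

theorem sol_pair {p q : ℕ} (hp : p.Prime) (hq : q.Prime) {H : Subgroup Γ} (hπ : IsPi {p, q} H) :
    Group.IsSolvable H := H8.isSolvable_of_two_primes hp hq fun s hs hd => hπ.mem hs hd

namespace Hy

variable (m : Hy r G A)
include m

theorem frat {p q : ℕ} [hp : Fact p.Prime] [hq : Fact q.Prime] {H P Q : Subgroup Γ}
    (hH : Iv G A H) (hP : ISyl G A p P) (hQ : Syl q Q (O2 {q}ᶜ {q} H)) (hQi : A ≤ 𝐍(Q)) :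
    P ⊓ H ≤ O[{q}ᶜ] H ⊔ P ⊓ (H ⊓ 𝐍(Q)) := by
  refine syl_le_sup (pcore_normal _ H) inf_le_left ?_ (m.syl_inf hP (hH.inf_norm hQi))
    (inf_le_inf_left _ inf_le_left) inf_le_right hP.syl.isP.to_inf_left
  refine (Frattini_arg hq.out (O2_normal _ _ H) hQ).sup_eq.ge.trans (sup_le ?_ le_sup_right)
  rw [← O2_eq_sup_of_Syl hQ]
  exact sup_le_sup_left (le_inf (hQ.le.trans (O2_sub _ _ _)) le_normalizer) _

omit m in
theorem hall_sSup {S : ℕ → Subgroup Γ} (hS : ∀ p, p.Prime → Syl p (S p) G) (σ : Finset ℕ) :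
    (∀ p ∈ σ, p.Prime) → (∀ p ∈ σ, ∀ q ∈ σ, p ≠ q → IsPi {p, q} (S p ⊔ S q)) →
    Hall σ (sSup (S '' σ)) G := by
  classical
  induction σ using Finset.induction_on with
  | empty =>
    intro _ _
    simp only [Finset.coe_empty, Set.image_empty, sSup_empty]
    exact hall_bot_iff.2 fun p _ _ => by simp
  | insert t σ ht ih =>
    intro h h2
    have ht' := h t (Finset.mem_insert_self t σ)
    have h' : ∀ p ∈ σ, p.Prime := fun p hp => h p (Finset.mem_insert_of_mem hp)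
    rw [Finset.coe_insert, Set.image_insert_eq, sSup_insert, Set.insert_eq]
    refine ((hS t ht').hall ht').union (ih h' fun p hp q hq => h2 p (Finset.mem_insert_of_mem hp) q
      (Finset.mem_insert_of_mem hq)) (mulEq_iff_coe.2 (H22.Permutes.coe_sup
      (H22.Permutes.symm (H22.Permutes.sSup_left ?_))).symm)
    rintro _ ⟨p, hp, rfl⟩
    have hne : p ≠ t := fun e => ht (e ▸ hp)
    have h3 := h2 p (Finset.mem_insert_of_mem hp) t (Finset.mem_insert_self t σ) hne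
    have h4 := sup_le (hS p (h' p hp)).le (hS t ht').le
    have h5 := ((hS p (h' p hp)).hall (h' p hp)).subl le_sup_left h4
    have h6 : Hall {p}ᶜ (S t) (S p ⊔ S t) := (((hS t ht').hall ht').subl le_sup_right h4).congr
      fun s hs => by
        rcases h3.mem_of_mem_primesOf hs with rfl | rfl
        · simp [hne]
        · simp [hne.symm]
    exact fun g hg => (h5.mulEq h6).exists_mul hg

omit m in
theorem sol_of_perm {S : ℕ → Subgroup Γ} (hS : ∀ p, p.Prime → Syl p (S p) G)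
    (h : ∀ p ∈ primesOf G, ∀ q ∈ primesOf G, p ≠ q → IsPi {p, q} (S p ⊔ S q)) :
    Group.IsSolvable G := by
  classical
  have h1 : ∀ s, s ∈ (Nat.card G).primeFactors ↔ s ∈ primesOf G := fun s => by
    simp [mem_primesOf, Nat.card_pos.ne']
  refine Cfsg.Agent.S0006.main _ rfl fun p hp => ?_
  have h4 : Hall {p}ᶜ _ G := (hall_sSup hS ((Nat.card G).primeFactors.erase p) (fun s hs =>
    Nat.prime_of_mem_primeFactors (Finset.mem_of_mem_erase hs)) fun s hs t ht =>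
      h s ((h1 s).1 (Finset.mem_of_mem_erase hs)) t ((h1 t).1 (Finset.mem_of_mem_erase ht))).congr
        fun s hs => by simp [(h1 s).2 hs]
  obtain ⟨h5, h6⟩ := (H3.isPiHall_compl_singleton_iff hp).1 ((hall_iff_subgroupOf h4.le).1 h4)
  exact ⟨_, h6, (Nat.Prime.coprime_iff_not_dvd hp).1 h5.symm⟩

end Hy

namespace Mz

variable (m : Mz r G A B)
include m

theorem supp {p : ℕ} [hp : Fact p.Prime] {P : Subgroup Γ} (hP : ISyl G A p P) (h : ¬ Sm G A p) :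
    ∃ a ∈ A, a ≠ 1 ∧ ∀ d ∈ A, d ∉ zpowers a → ⁅P ⊓ 𝐂[d], A⁆ ≠ ⊥ := by
  by_contra hc
  push Not at hc
  refine h ⟨fun u _ U V hne hU hUp hUU hV hVp hn => hUU.trans (m.hz.comm_le_of_gen hU
    (H2.le_normalizer_centralizer hn) fun a ha ha1 => ?_)⟩
  obtain ⟨d, hd, hda, e⟩ := hc a ha ha1
  have hi := m.iv_cent1 hU ha
  exact m.hz.l1i hne ha ha1 hd hda (iv_th hi) (hUp.to_inf_left.to_le (th_le hi)) (m.th_th hi).ge
    ((th_le hi).trans inf_le_right) hV hVp ((th_le hi).trans (inf_le_left.trans hn))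
    ((commutator_mono (inf_le_inf_right _ (hP.max V hV hVp)) le_rfl).trans (e.le.trans bot_le))

theorem good {p : ℕ} [hp : Fact p.Prime] {P : Subgroup Γ} (hP : ISyl G A p P) (h : ¬ Sm G A p) :
    ∀ e ∈ A, e ≠ 1 → ¬ P ≤ 𝐂[e] := fun e he he1 h1 => by
  obtain ⟨a, ha, -, h2⟩ := m.supp hP h
  obtain ⟨d, hd, h3, h4⟩ := m.hz.exists_ind2 ha he
  exact h2 d hd h3 (commutator_eq_bot_iff_le_centralizer.2 (m.hz.cent_ind he he1 hd h4 h1))

theorem perm {p q : ℕ} [hp : Fact p.Prime] [hq : Fact q.Prime] (hne : p ≠ q) {P Q : Subgroup Γ}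
    (hP : ISyl G A p P) (hQ : ISyl G A q Q) {a : Γ} (ha : a ∈ A) (ha1 : a ≠ 1)
    (h1 : ⁅P ⊓ 𝐂[a], A⁆ ≠ ⊥) (h2 : ⁅Q ⊓ 𝐂[a], A⁆ ≠ ⊥) : IsPi {p, q} (P ⊔ Q) := by
  by_contra h
  exact h2 (Pr.pl ⟨m, hne, rfl, hP, hQ, h⟩ ha ha1 h1)

theorem perm_large {p q : ℕ} [hp : Fact p.Prime] [hq : Fact q.Prime] (hne : p ≠ q)
    {P Q : Subgroup Γ} (hP : ISyl G A p P) (hQ : ISyl G A q Q) (h1 : ¬ Sm G A p)
    (h2 : ¬ Sm G A q) : IsPi {p, q} (P ⊔ Q) := by
  obtain ⟨a, ha, -, h3⟩ := m.supp hP h1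
  obtain ⟨b, hb, -, h4⟩ := m.supp hQ h2
  obtain ⟨d, hd, h5, h6⟩ := m.hz.exists_ind2 ha hb
  exact m.perm hne hP hQ hd (ne_one_of_ind h5) (h3 d hd h5) (h4 d hd h6)

theorem small_norm {p t : ℕ} [hp : Fact p.Prime] [ht : Fact t.Prime] (hne : p ≠ t)
    {P T : Subgroup Γ} (hP : ISyl G A p P) (hT : ISyl G A t T) (h : Sm G A t)
    (hπ : IsPi {p, t} (P ⊔ T)) : T ≤ 𝐍(⁅P, A⁆) := by
  have hH := hP.iv.sup hT.iv
  refine m.norm_th hne hP hH le_sup_left (m.hz.wlc hne hH (sol_pair hp.out ht.out hπ) hπ hP.iv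
    hP.syl.isP le_sup_left ?_) hT.iv hT.syl.isP le_sup_right
  rw [core_pair hne hπ]
  exact h.cent p hne.symm (iv_th hP.iv) (hP.syl.isP.to_le (th_le hP.iv)) (m.th_th hP.iv).ge
    (hH.pcore _) (pcore_isPGroup t _) ((th_le hP.iv).trans (le_sup_left.trans (pcore_norm _ _)))

end Mz

namespace Pr

variable {π : Set ℕ} {p t : ℕ} [hp : Fact p.Prime] [ht : Fact t.Prime] {P T : Subgroup Γ}
  (c : Pr r G A B π p t P T)
include c

theorem spl (h1 : ¬ Sm G A p) (h2 : Sm G A t) {X : Subgroup Γ} (hX : Iv G B X) (hXp : IsPGroup p X)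
    (h : IsPi π (X ⊔ T)) : X ≤ 𝐂(A) := by
  obtain ⟨H, e, hH⟩ := Finite.exists_le_maximal (p := IP G B π) ⟨hX.sup c.symm.ivP, h⟩
  have h3 := c.symm.core_eq_bot hH (c.m.good c.hP h1) (le_sup_right.trans e)
  have hi := c.m.iv hX
  have h4 : ⁅X, A⁆ ≤ H := (th_le hi).trans (le_sup_left.trans e)
  have h5 := h2.cent p c.ne.symm (iv_th hi) (hXp.to_le (th_le hi)) (c.m.th_th hi).ge
    (c.m.iv (hH.1.1.pcore {t})) (pcore_isPGroup t _) (h4.trans (pcore_norm _ _))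
  rw [← commutator_eq_bot_iff_le_centralizer, ← le_bot_iff, ← inf_eq_bot_of_p'
    (isPi_compl_of_ne (hXp.to_le (th_le hi)) c.ne) (pcore_isPGroup t H)]
  exact le_inf le_rfl ((le_inf h4 h5).trans
    (cent_pcore_le (c.sol hH.1) ((c.symm.core_eq hH.1).trans h3)))

theorem bad (h1 : ¬ Sm G A p) :
    ∃ e ∈ A, e ≠ 1 ∧ T ≤ 𝐂[e] ∧ ⁅P ⊓ 𝐂[e], A⁆ = ⊥ ∧ ⁅T ⊓ 𝐂[e], A⁆ ≠ ⊥ := by
  obtain ⟨e, he, he1, h2⟩ := c.m.supp c.hP h1
  have h3 : T ≤ 𝐂[e] := c.m.hz.gen2 c.hQ.iv he inf_le_right fun d hd hde =>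
    (commutator_eq_bot_iff_le_centralizer.1 (c.pl hd (ne_one_of_ind hde) (h2 d hd hde))).trans
      (cent_le_cent1 he)
  have h4 : ⁅T ⊓ 𝐂[e], A⁆ ≠ ⊥ := by
    rw [inf_of_le_left h3]
    exact c.symm.th_ne_bot
  exact ⟨e, he, he1, h3, c.symm.pl he he1 h4, h4⟩

theorem excl (h1 : ¬ Sm G A p) (h2 : Sm G A t) {e : Γ} (he : e ∈ A) (he1 : e ≠ 1)
    (h3 : T ≤ 𝐂[e]) (h4 : ⁅P ⊓ 𝐂[e], A⁆ = ⊥) (h5 : ⁅T ⊓ 𝐂[e], A⁆ ≠ ⊥) {s : ℕ} [hs : Fact s.Prime]
    {R : Subgroup Γ} (hR : ISyl G A s R) (h6 : ¬ Sm G A s) : ⁅R ⊓ 𝐂[e], A⁆ = ⊥ := by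
  by_contra h7
  have m := c.m
  have hz : zpowers e ≤ A := zpowers_le.2 he
  have hsp : s ≠ p := by
    rintro rfl
    exact h7 (le_bot_iff.1 ((commutator_mono (inf_le_inf_right _
      (c.hP.max R hR.iv hR.syl.isP)) le_rfl).trans h4.le))
  have hst : s ≠ t := by
    rintro rfl
    exact h6 h2
  have hπ := m.perm_large hsp hR c.hP h6 h1
  have n1 := m.small_norm hst hR c.hQ h2 (m.perm hst hR c.hQ he he1 h7 h5)
  have hRp := hR.syl.isP
  have hRB := m.ivS hR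
  have hV := m.ivth hRB
  have h8 : P ⊓ 𝐍(⁅R, A⁆) ≤ 𝐂(A) := by
    have hX := c.ivP.inf_norm hV.2
    refine c.spl h1 h2 hX c.hP.syl.isP.to_inf_left (m.join_norm hV (fun e => h7 (le_bot_iff.1
      ((commutator_mono inf_le_left le_rfl).trans e.le))) (psol (hRp.to_le (th_le hR.iv)))
      (c.ip hX c.hP.syl.isP.to_inf_left) c.symm.ipP inf_le_right n1).2
  have hH := hR.iv.sup c.hP.iv
  have hs' := sol_pair hs.out hp.out hπ
  have hO : Iv G A (O2 {s}ᶜ {s} (R ⊔ P)) := ⟨(O2_sub _ _ _).trans hH.1, le_norm_O2 _ _ hH.2⟩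
  have hR0 := hR.iv.inf hO.2
  have h9 := m.frat hH c.hP (m.syl_inf hR hO) hR0.2
  rw [core_pair hsp hπ, inf_of_le_left (le_sup_right : P ≤ R ⊔ P)] at h9
  have e1 : ⁅R ⊓ O2 {s}ᶜ {s} (R ⊔ P), A⁆ = ⁅R, A⁆ := H2.commutator_eq_of_commutator_le hR.norm
    (m.coprime hR.syl.le) inf_le_left
    (le_inf (th_le hR.iv) (m.hz.wl hsp hH hs' hπ hR.iv hRp le_sup_left))
  have h10 : P ⊓ ((R ⊔ P) ⊓ 𝐍(R ⊓ O2 {s}ᶜ {s} (R ⊔ P))) ≤ 𝐂(A) :=
    (le_inf inf_le_left (e1 ▸ m.star2 hsp hR0 (c.hP.iv.inf (hH.inf_norm hR0.2).2) hRp.to_inf_left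
      c.hP.syl.isP.to_inf_left (inf_le_right.trans inf_le_right))).trans h8
  have hW := hH.pcore {p}
  have hWp := pcore_isPGroup p (R ⊔ P)
  have h11 : ⁅R, zpowers e⁆ ≤ 𝐂(O[{p}] (R ⊔ P)) :=
    m.hz.comm_le_of_theta hR.iv hRp he he1 fun a ha hae => by
      have hj := m.iv_cent1 hR.iv ha
      exact m.hz.l1i hsp.symm ha (ne_one_of_ind hae) he (m.hz.ind_symm he he1 ha hae) (iv_th hj)
        (hRp.to_inf_left.to_le (th_le hj)) (m.th_th hj).ge ((th_le hj).trans inf_le_right)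
        hW hWp ((th_le hj).trans (inf_le_left.trans (le_sup_left.trans (pcore_norm _ _))))
        ((commutator_mono (inf_le_inf_right _ (c.hP.max _ hW hWp)) le_rfl).trans
          (h4.le.trans bot_le))
  have hU := m.ivz hRB he
  refine c.hn (m.join_norm hU (fun e' => m.good hR h6 e he he1
    (cent_cycle e ▸ commutator_eq_bot_iff_le_centralizer.1 e')) (psol (hRp.to_le
      (H2.commutator_le_of_le_normalizer (hz.trans hR.norm)))) c.ipP c.symm.ipP ?_ ?_).2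
  · refine h9.trans (sup_le (cents_norm (centsC.1 h11)) (le_trans ?_ hU.2))
    rw [m.hB]
    exact (le_inf (inf_le_left.trans c.hP.syl.le) h10).trans le_sup_right
  · rw [← H2.commutator_eq_of_commutator_le (hz.trans hR.norm) (m.coprimez hR.syl.le he)
      (th_le hR.iv) (commutator_mono le_rfl hz)]
    exact H2.le_normalizer_commutator n1 (cents_norm (h3.trans (cent_cycle e).ge))

end Pr

theorem Mz.small (m : Mz r G A B) (s : ℕ) [hs : Fact s.Prime] : Sm G A s := by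
  classical
  by_contra hl
  have h1 : ∀ p : ℕ, ∃ P, p.Prime → ISyl G A p P := fun p => by
    by_cases hp : p.Prime
    · have : Fact p.Prime := ⟨hp⟩
      obtain ⟨P, hP⟩ := m.exists_isyl p
      exact ⟨P, fun _ => hP⟩
    · exact ⟨⊥, fun h => (hp h).elim⟩
  choose S hS using h1
  have hS' : ∀ p, p.Prime → Syl p (S p) G := fun p hp => (hS p hp).syl
  obtain ⟨a, ha, ha1, h2⟩ := m.supp (hS s hs.out) hl
  let σ := (Nat.card G).primeFactors.filter fun p => ¬ Sm G A p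
  have hσ : ∀ p, p ∈ σ ↔ p ∈ primesOf G ∧ ¬ Sm G A p := fun p => by
    simp [σ, mem_primesOf, Nat.card_pos.ne']
  have h3 : ∀ p ∈ σ, ∀ q ∈ σ, p ≠ q → IsPi {p, q} (S p ⊔ S q) := fun p hp q hq hne => by
    have := Fact.mk ((hσ p).1 hp).1.1
    have := Fact.mk ((hσ q).1 hq).1.1
    exact m.perm_large hne (hS p Fact.out) (hS q Fact.out) ((hσ p).1 hp).2 ((hσ q).1 hq).2
  have h4 := Hy.hall_sSup hS' σ (fun p hp => ((hσ p).1 hp).1.1) h3
  let M : Subgroup Γ := ⨆ p : σ, ⁅S p, A⁆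
  have hp' : ∀ p : σ, (p : ℕ).Prime := fun p => ((hσ p).1 p.2).1.1
  have hM1 : M ≤ sSup (S '' σ) := iSup_le fun p =>
    (th_le (hS p (hp' p)).iv).trans (le_sSup ⟨p, p.2, rfl⟩)
  have hMB : Iv G B M := ⟨hM1.trans h4.le, le_normalizer_iSup fun p =>
    have := Fact.mk (hp' p)
    (m.ivth (m.ivS (hS p (hp' p)))).2⟩
  have hM := m.iv hMB
  obtain ⟨b, hb, hba⟩ := m.hz.exists_ind ha
  have hsσ : s ∈ σ := (hσ s).2 ⟨((hS' s hs.out).ne_bot_iff hs.out).1 fun e => h2 b hb hba (by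
    rw [e, bot_inf_eq, commutator_bot_left]), hl⟩
  have hM0 : M ≠ ⊥ := fun e => h2 b hb hba (le_bot_iff.1 ((commutator_mono inf_le_left le_rfl).trans
    ((le_iSup (fun p : σ => ⁅S p, A⁆) ⟨s, hsσ⟩).trans e.le)))
  have hMG : ¬ G ≤ 𝐍(M) := fun h => by
    have e := m.simp M hM.1 hM0 hM.2 h
    have h5 : IsPi σ G := h4.isPi.of_le (e.ge.trans hM1)
    exact m.nsol (Hy.sol_of_perm hS' fun p hp q hq =>
      h3 p (h5.mem_of_mem_primesOf hp) q (h5.mem_of_mem_primesOf hq))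
  have h5 : ∀ t ∈ primesOf G, S t ≤ 𝐍(M) ∨ S t ≤ 𝐂[a] := fun t ht => by
    have := Fact.mk ht.1
    have hT := hS t ht.1
    by_cases h6 : Sm G A t
    swap
    · refine Or.inl ((m.dec hT.iv).ge.trans (sup_le (le_trans ?_ le_normalizer)
        (le_trans ?_ hMB.2)))
      · exact le_iSup (fun p : σ => ⁅S p, A⁆) ⟨t, (hσ t).2 ⟨ht, h6⟩⟩
      · rw [m.hB]
        exact (inf_le_inf_right _ hT.syl.le).trans le_sup_right
    refine or_iff_not_imp_right.2 fun h7 => le_normalizer_iSup fun p => ?_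
    have := Fact.mk (hp' p)
    have h8 := ((hσ p).1 p.2).2
    have hne : (p : ℕ) ≠ t := fun e => h8 (e ▸ h6)
    refine m.small_norm hne (hS p (hp' p)) hT h6 ?_
    by_contra h9
    have c : Pr r G A B {(p : ℕ), t} p t (S p) (S t) := ⟨m, hne, rfl, hS p (hp' p), hT, h9⟩
    obtain ⟨e, he, he1, a1, a2, a3⟩ := c.bad h8
    by_cases hea : e ∈ zpowers a
    · exact h7 (a1.trans (m.hz.cent_le_of_mem ha hea he1))
    · exact h2 e he hea (c.excl h8 h6 he he1 a1 a2 a3 (hS s hs.out) hl)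
  have h6 : MulEq (G ⊓ 𝐍(M)) (G ⊓ 𝐂[a]) G := by
    refine mulEq_of_coprime_relIndex inf_le_left inf_le_left
      (coprime_iff_forall_prime.2 fun t ht d1 d2 => ?_)
    have h7 := ((hS' t ht).hall ht).not_dvd_relIndex ht rfl
    rcases h5 t ⟨ht, d1.trans (relIndex_dvd_card _ _)⟩ with h | h
    · exact h7 (d1.trans (relIndex_dvd_of_le_left G (le_inf (hS' t ht).le h)))
    · exact h7 (d2.trans (relIndex_dvd_of_le_left G (le_inf (hS' t ht).le h)))
  have hz : zpowers a ≤ A := zpowers_le.2 ha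
  have hK := iv_comm m.iv_self (m.normz ha) (hz.trans m.norm)
  apply hMG
  rw [← m.simp _ hK.1 (fun e => m.fai a ha ha1
    (cent_cycle a ▸ commutator_eq_bot_iff_le_centralizer.1 e)) hK.2
    (normalizer_commutator_ge_left _ _), commutator_le]
  intro g hg x hx
  obtain ⟨h, hh, d, hd, rfl⟩ := h6.exists_mul hg
  have e1 : d * x = x * d := ((cent_cycle a).ge hd.2 x hx).symm
  have e2 : ⁅h * d, x⁆ = h * x * h⁻¹ * x⁻¹ := by
    rw [commutatorElement_def, mul_assoc h, e1]; group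
  rw [e2]
  have h8 : x ∈ 𝐍(M) := hM.2 (hz hx)
  exact mul_mem (mul_mem (mul_mem hh.2 h8) (inv_mem hh.2)) (inv_mem h8)

end H59.Pt
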